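/-
Groups whose squares lie in the derived subgroup (`P/P'` elementary abelian).

* `SqComm`: `∀ x : H, x ^ 2 ∈ commutator H`; closure criterion, images, Sylow transfer
* `wreathSub`: the subgroup `{B f * D w | f ∈ S, w ∈ T}` and the criterion `sqComm_wreathSub`
-/
import Cfsg.Agent.Lib.SymSylowGen.Basic

set_option autoImplicit false

namespace Cfsg.Agent.WreathAb

open Equiv

/-- Every square lies in the derived subgroup. -/
def SqComm {G : Type*} [Group G] (H : Subgroup G) : Prop :=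
  ∀ x : H, x ^ 2 ∈ commutator H

variable {G G' : Type*} [Group G] [Group G']

theorem mem_commutator_iff {H : Subgroup G} (x : H) : x ∈ commutator H ↔ (x : G) ∈ ⁅H, H⁆ := by
  rw [← Subgroup.map_subtype_commutator H]
  exact (Subgroup.mem_map_iff_mem H.subtype_injective).symm

theorem sqComm_iff {H : Subgroup G} : SqComm H ↔ ∀ x ∈ H, x ^ 2 ∈ ⁅H, H⁆ :=
  ⟨fun h x hx => (mem_commutator_iff _).mp (h ⟨x, hx⟩),
    fun h x => (mem_commutator_iff _).mpr (h x x.2)⟩

theorem SqComm.map {H : Subgroup G} (h : SqComm H) (f : G →* G') : SqComm (H.map f) := by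
  rw [sqComm_iff] at h ⊢
  rintro _ ⟨x, hx, rfl⟩
  rw [← map_pow, ← Subgroup.map_commutator]
  exact Subgroup.mem_map_of_mem f (h x hx)

theorem SqComm.of_map {H : Subgroup G} {f : G →* G'} (hf : Function.Injective f)
    (h : SqComm (H.map f)) : SqComm H := by
  rw [sqComm_iff] at h ⊢
  intro x hx
  have h1 := h _ (Subgroup.mem_map_of_mem f hx)
  rw [← map_pow, ← Subgroup.map_commutator] at h1
  exact (Subgroup.mem_map_iff_mem hf).mp h1

/-- It suffices to look at generators. -/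
theorem sqComm_of_closure {H : Subgroup G}
    (h : H ≤ Subgroup.closure {y | y ∈ H ∧ y ^ 2 ∈ ⁅H, H⁆}) : SqComm H := by
  intro x
  let f : H →* Abelianization H := (powMonoidHom 2).comp Abelianization.of
  have htop : (⊤ : Subgroup H) ≤ Subgroup.closure {y : H | y ^ 2 ∈ commutator H} := by
    refine (Subgroup.map_le_map_iff_of_injective H.subtype_injective).mp ?_
    rw [← MonoidHom.range_eq_map, Subgroup.range_subtype, MonoidHom.map_closure]
    refine h.trans (Subgroup.closure_mono ?_)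
    rintro y ⟨hy, hy'⟩
    exact ⟨⟨y, hy⟩, (mem_commutator_iff _).mpr hy', rfl⟩
  have hker : Subgroup.closure {y : H | y ^ 2 ∈ commutator H} ≤ f.ker := by
    rw [Subgroup.closure_le]
    intro y hy
    show Abelianization.of y ^ 2 = 1
    rw [← map_pow]
    exact (QuotientGroup.eq_one_iff _).mpr hy
  exact (QuotientGroup.eq_one_iff _).mp (show Abelianization.of (x ^ 2) = 1 by
    rw [map_pow]
    exact hker (htop (Subgroup.mem_top x)))

/-- The property passes between Sylow subgroups. -/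
theorem sqComm_sylow [Finite G] {p : ℕ} [Fact p.Prime] (S P : Sylow p G)
    (h : SqComm (S : Subgroup G)) : SqComm (P : Subgroup G) := by
  obtain ⟨g, rfl⟩ := MulAction.exists_smul_eq G S P
  exact h.map (MulAut.conj g).toMonoidHom

/-- One subgroup of full `2`-part with the property settles every Sylow `2`-subgroup. -/
theorem sqComm_of_card [Finite G] (W : Subgroup G)
    (hW : Nat.card W = 2 ^ (Nat.card G).factorization 2) (h : SqComm W) (P : Sylow 2 G) :
    SqComm (P : Subgroup G) :=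
  sqComm_sylow (Sylow.ofCard W hW) P h

/-- Transport along an injective homomorphism whose range contains `W`. -/
theorem sqComm_of_card_range [Finite G] (f : G →* G') (hf : Function.Injective f) (W : Subgroup G')
    (hWr : W ≤ f.range) (hW : Nat.card W = 2 ^ (Nat.card G).factorization 2) (h : SqComm W)
    (P : Sylow 2 G) : SqComm (P : Subgroup G) := by
  have e : (W.comap f).map f = W := Subgroup.map_comap_eq_self hWr
  refine sqComm_of_card (W.comap f) ?_ (SqComm.of_map hf (e.symm ▸ h)) P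
  rw [← hW]
  conv_rhs => rw [← e]
  exact (Subgroup.card_map_of_injective hf).symm

section Wreath

variable {A : Type*} [Group A] {n : ℕ} (B : (Fin n → A) →* G) (D : Perm (Fin n) →* G)
  (hBD : ∀ (w : Perm (Fin n)) (f : Fin n → A), D w * B f = B (fun i => f (w⁻¹ i)) * D w)

/-- The subgroup `{B f * D w | f ∈ S, w ∈ T}`. -/
def wreathSub (S : Subgroup (Fin n → A)) (T : Subgroup (Perm (Fin n)))
    (hinv : ∀ w ∈ T, ∀ f ∈ S, (fun i => f (w⁻¹ i)) ∈ S) : Subgroup G where
  carrier := {g | ∃ f ∈ S, ∃ w ∈ T, g = B f * D w}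
  one_mem' := ⟨1, S.one_mem, 1, T.one_mem, by rw [map_one, map_one, mul_one]⟩
  mul_mem' := by
    rintro _ _ ⟨f, hf, w, hw, rfl⟩ ⟨g, hg, v, hv, rfl⟩
    refine ⟨f * fun i => g (w⁻¹ i), S.mul_mem hf (hinv w hw g hg), w * v, T.mul_mem hw hv, ?_⟩
    rw [map_mul B, map_mul D, mul_assoc, ← mul_assoc (D w), hBD, mul_assoc, mul_assoc]
  inv_mem' := by
    rintro _ ⟨f, hf, w, hw, rfl⟩
    refine ⟨fun i => f⁻¹ (w i), ?_, w⁻¹, T.inv_mem hw, ?_⟩
    · have := hinv w⁻¹ (T.inv_mem hw) f⁻¹ (S.inv_mem hf)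
      simpa using this
    · rw [mul_inv_rev, ← map_inv B, ← map_inv D, hBD]
      simp

variable (S : Subgroup (Fin n → A)) (T : Subgroup (Perm (Fin n)))
  (hinv : ∀ w ∈ T, ∀ f ∈ S, (fun i => f (w⁻¹ i)) ∈ S)

theorem base_le_wreathSub : S.map B ≤ wreathSub B D hBD S T hinv := by
  rintro _ ⟨f, hf, rfl⟩
  exact ⟨f, hf, 1, T.one_mem, by rw [map_one, mul_one]⟩

theorem top_le_wreathSub : T.map D ≤ wreathSub B D hBD S T hinv := by
  rintro _ ⟨w, hw, rfl⟩
  exact ⟨1, S.one_mem, w, hw, by rw [map_one, one_mul]⟩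

theorem card_wreathSub (hinj : ∀ f w, B f * D w = 1 → f = 1 ∧ w = 1) :
    Nat.card (wreathSub B D hBD S T hinv) = Nat.card S * Nat.card T := by
  rw [← Nat.card_prod]
  refine (Nat.card_congr (Equiv.ofBijective
    (fun q : S × T => (⟨B q.1 * D q.2, q.1, q.1.2, q.2, q.2.2, rfl⟩ : wreathSub B D hBD S T hinv))
    ⟨?_, fun ⟨_, f, hf, w, hw, e⟩ => ⟨(⟨f, hf⟩, ⟨w, hw⟩), Subtype.ext e.symm⟩⟩)).symm
  rintro ⟨⟨f, hf⟩, ⟨w, hw⟩⟩ ⟨⟨g, hg⟩, ⟨v, hv⟩⟩ h
  have h1 : B f * D w = B g * D v := congrArg Subtype.val h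
  have h2 : B (g⁻¹ * f) * D (w * v⁻¹) = 1 := by
    rw [map_mul, map_mul, map_inv, map_inv, mul_assoc, ← mul_assoc (B f), h1, mul_inv_cancel_right,
      inv_mul_cancel]
  obtain ⟨hf', hw'⟩ := hinj _ _ h2
  have e1 : g = f := inv_mul_eq_one.mp hf'
  have e2 : w = v := mul_inv_eq_one.mp hw'
  subst e1 e2
  rfl

/-- Criterion: the base is generated by good elements and `T` by involutions. -/
theorem sqComm_wreathSub (hT : SymSylowGen.GenExp 2 T)
    (hS : ∀ f ∈ S, B f ∈ Subgroup.closure {y | y ∈ wreathSub B D hBD S T hinv ∧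
      y ^ 2 ∈ ⁅wreathSub B D hBD S T hinv, wreathSub B D hBD S T hinv⁆}) :
    SqComm (wreathSub B D hBD S T hinv) := by
  refine sqComm_of_closure ?_
  rintro _ ⟨f, hf, w, hw, rfl⟩
  refine Subgroup.mul_mem _ (hS f hf) ?_
  have h1 := Subgroup.mem_map_of_mem D (hT hw)
  rw [MonoidHom.map_closure] at h1
  refine Subgroup.closure_mono ?_ h1
  rintro _ ⟨y, ⟨hy, hy'⟩, rfl⟩
  exact ⟨top_le_wreathSub B D hBD S T hinv (Subgroup.mem_map_of_mem D hy),
    by rw [← map_pow, hy', map_one]; exact Subgroup.one_mem _⟩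

/-- A coordinate subgroup with the property contributes good elements. -/
theorem single_mem_closure [DecidableEq (Fin n)] {Q : Subgroup A} (hQ : SqComm Q) (i : Fin n)
    (hQS : ∀ q ∈ Q, Pi.mulSingle i q ∈ S) {q : A} (hq : q ∈ Q) :
    B (Pi.mulSingle i q) ∈ Subgroup.closure {y | y ∈ wreathSub B D hBD S T hinv ∧
      y ^ 2 ∈ ⁅wreathSub B D hBD S T hinv, wreathSub B D hBD S T hinv⁆} := by
  set W := wreathSub B D hBD S T hinv
  let h : A →* G := B.comp (MonoidHom.mulSingle (fun _ : Fin n => A) i)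
  have hle : Q.map h ≤ W := by
    rintro _ ⟨x, hx, rfl⟩
    exact base_le_wreathSub B D hBD S T hinv (Subgroup.mem_map_of_mem B (hQS x hx))
  refine Subgroup.subset_closure ⟨hle (Subgroup.mem_map_of_mem h hq), ?_⟩
  exact Subgroup.commutator_mono hle hle ((sqComm_iff.mp (hQ.map h)) _ (Subgroup.mem_map_of_mem h hq))

end Wreath

end Cfsg.Agent.WreathAb
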