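/-
Block-diagonal and block-permutation matrices, a Sylow `2`-subgroup of `GL_2(q)`, and `2`-adic
valuations of the orders of classical groups.

* `bGL`, `dGL`, `bGL_dGL`, `bGL_dGL_inj`, `det_bGL`, `det_dGL`
* `sqComm_sylow_SL_two`, `exists_gl_two_data`
* `val_pow_even`, `val_pow_odd`, `val_prod_gl`, `val_prod_sp`
-/
import Cfsg.Agent.Lib.WreathAb.Basic
import Cfsg.Agent.Lib.GLOrder.Basic
import Cfsg.Agent.Lib.GLOrder.Torus
import Cfsg.Agent.Lib.StrongEmb.Basic
import Mathlib.LinearAlgebra.Matrix.Permutation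
import Mathlib.NumberTheory.Multiplicity

set_option autoImplicit false

namespace Cfsg.Agent.WreathAb

open Matrix Equiv

section Blocks

variable {n : ℕ} {F : Type*} [Field F]

/-- Block diagonal matrices. -/
def bGL : (Fin n → GL (Fin 2) F) →* GL (Fin 2 × Fin n) F :=
  (Units.map (blockDiagonalRingHom (Fin 2) (Fin n) F).toMonoidHom).comp
    MulEquiv.piUnits.symm.toMonoidHom

theorem bGL_val (f : Fin n → GL (Fin 2) F) :
    ((bGL f : GL (Fin 2 × Fin n) F) : Matrix (Fin 2 × Fin n) (Fin 2 × Fin n) F) =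
      blockDiagonal fun i => (f i : Matrix (Fin 2) (Fin 2) F) := rfl

/-- Permutation of the blocks. -/
def blockPerm (w : Perm (Fin n)) : Perm (Fin 2 × Fin n) := Equiv.prodCongrRight fun _ => w

/-- `blockPerm` as a homomorphism. -/
def blockPermHom : Perm (Fin n) →* Perm (Fin 2 × Fin n) :=
  MonoidHom.mk' blockPerm fun _ _ => Equiv.ext fun _ => rfl

/-- Block permutation matrices. -/
def dGL : Perm (Fin n) →* GL (Fin 2 × Fin n) F :=
  ((Matrix.permMatrixHom (n := Fin 2 × Fin n) (R := F)).comp blockPermHom).toHomUnits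

theorem dGL_val (w : Perm (Fin n)) :
    ((dGL w : GL (Fin 2 × Fin n) F) : Matrix (Fin 2 × Fin n) (Fin 2 × Fin n) F) =
      (blockPerm w)⁻¹.toPEquiv.toMatrix := rfl

theorem bGL_dGL (w : Perm (Fin n)) (f : Fin n → GL (Fin 2) F) :
    dGL w * bGL f = bGL (fun i => f (w⁻¹ i)) * dGL w := by
  refine Units.ext ?_
  rw [Units.val_mul, Units.val_mul, dGL_val, bGL_val, bGL_val, PEquiv.toMatrix_toPEquiv_mul,
    PEquiv.mul_toMatrix_toPEquiv]
  ext ⟨x, i⟩ ⟨y, j⟩
  simp only [Matrix.submatrix_apply, id_eq, blockPerm, Equiv.Perm.inv_def,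
    Equiv.prodCongrRight, Equiv.coe_fn_symm_mk, Equiv.coe_fn_mk, Equiv.symm_symm,
    blockDiagonal_apply, Equiv.symm_apply_eq]

theorem bGL_dGL_inj (f : Fin n → GL (Fin 2) F) (w : Perm (Fin n))
    (h : bGL f * dGL w = 1) : f = 1 ∧ w = 1 := by
  have h1 : bGL f = (dGL w⁻¹ : GL (Fin 2 × Fin n) F) := by
    rw [map_inv]; exact mul_eq_one_iff_eq_inv.mp h
  have hw : w = 1 := by
    ext i : 1
    by_contra hne
    have hdet : ((f (w i) : GL (Fin 2) F) : Matrix (Fin 2) (Fin 2) F) = 0 := by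
      ext x y
      have h2 := congrFun (congrFun (congrArg (fun u : GL (Fin 2 × Fin n) F => (u : Matrix (Fin 2 × Fin n) (Fin 2 × Fin n) F)) h1) (x, w i)) (y, w i)
      rw [bGL_val, dGL_val, blockDiagonal_apply_eq] at h2
      rw [h2, PEquiv.toMatrix_apply, if_neg]
      · rfl
      · intro hm
        rw [Equiv.toPEquiv_apply, Option.mem_some_iff, Perm.inv_eq_iff_eq] at hm
        have := congrArg Prod.snd hm
        simp [blockPerm] at this
        exact hne this
    exact Units.ne_zero _ hdet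
  refine ⟨?_, hw⟩
  rw [hw, map_one, mul_one] at h
  funext i
  refine Units.ext ?_
  ext x y
  have h2 := congrFun (congrFun (congrArg (fun u : GL (Fin 2 × Fin n) F => (u : Matrix (Fin 2 × Fin n) (Fin 2 × Fin n) F)) h) (x, i)) (y, i)
  rw [bGL_val, blockDiagonal_apply_eq] at h2
  rw [h2]
  simp [Matrix.one_apply]

theorem det_bGL (f : Fin n → GL (Fin 2) F) :
    GeneralLinearGroup.det (bGL f) = ∏ i, GeneralLinearGroup.det (f i) := by
  refine Units.ext ?_
  rw [GeneralLinearGroup.val_det_apply, bGL_val, det_blockDiagonal, Units.coe_prod]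
  rfl

theorem det_dGL (w : Perm (Fin n)) : GeneralLinearGroup.det (dGL w : GL (Fin 2 × Fin n) F) = 1 := by
  refine Units.ext ?_
  rw [GeneralLinearGroup.val_det_apply, dGL_val]
  show Matrix.det ((blockPerm w)⁻¹.permMatrix F) = 1
  rw [det_permutation, map_inv, blockPerm, Perm.sign_prodCongrRight, Finset.prod_const,
    Finset.card_univ, Fintype.card_fin, Int.units_sq, inv_one]
  simp

end Blocks

section Arith

variable {q : ℕ} (hq : Odd q) (hq1 : 1 < q)
include hq hq1

theorem val_pow_even {k : ℕ} (hk : k ≠ 0) :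
    padicValNat 2 (q ^ (2 * k) - 1) = padicValNat 2 (q ^ 2 - 1) + padicValNat 2 k := by
  have h2 : ¬ 2 ∣ q := fun h => (Nat.not_even_iff_odd.mpr hq) (even_iff_two_dvd.mpr h)
  have hd : 2 ∣ q - 1 := by omega
  have ha := padicValNat.pow_two_sub_pow (x := q) (y := 1) hq1 hd h2 (n := 2 * k) (by omega)
    (even_two_mul k)
  have hb := padicValNat.pow_two_sub_pow (x := q) (y := 1) hq1 hd h2 (n := 2) (by omega) (by decide)
  rw [one_pow, padicValNat.mul (by norm_num) hk] at ha
  rw [one_pow] at hb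
  omega

theorem val_pow_odd (k : ℕ) : padicValNat 2 (q ^ (2 * k + 1) - 1) = padicValNat 2 (q - 1) := by
  set n := 2 * k + 1
  have hn : n ≠ 0 := by omega
  have hqn : 1 < q ^ n := Nat.one_lt_pow hn hq1
  have h := val_pow_even hq hq1 hn
  rw [show padicValNat 2 n = 0 from padicValNat.eq_zero_of_not_dvd (by omega), add_zero,
    show q ^ (2 * n) - 1 = (q ^ n + 1) * (q ^ n - 1) by
      rw [mul_comm 2 n, pow_mul, ← one_pow 2, Nat.sq_sub_sq, one_pow],
    show q ^ 2 - 1 = (q + 1) * (q - 1) by rw [← one_pow 2, Nat.sq_sub_sq, one_pow],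
    padicValNat.mul (by omega) (by omega), padicValNat.mul (by omega) (by omega)] at h
  have hA : padicValNat 2 (q - 1) ≤ padicValNat 2 (q ^ n - 1) := by
    rw [← padicValNat_dvd_iff_le (by omega)]
    exact pow_padicValNat_dvd.trans (by simpa using Nat.sub_dvd_pow_sub_pow q 1 n)
  have hB : padicValNat 2 (q + 1) ≤ padicValNat 2 (q ^ n + 1) := by
    rw [← padicValNat_dvd_iff_le (by omega)]
    exact pow_padicValNat_dvd.trans (by simpa using Odd.nat_add_dvd_pow_add_pow q 1 ⟨k, rfl⟩)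
  omega

theorem val_prod_sp (m : ℕ) :
    padicValNat 2 (∏ i ∈ Finset.range m, (q ^ (2 * (i + 1)) - 1)) =
      m * padicValNat 2 (q ^ 2 - 1) + padicValNat 2 m.factorial := by
  induction m with
  | zero => simp
  | succ m ih =>
    have hne : ∀ j, q ^ (2 * (j + 1)) - 1 ≠ 0 := fun j => by
      have := Nat.one_lt_pow (show 2 * (j + 1) ≠ 0 by omega) hq1
      omega
    rw [Finset.prod_range_succ, padicValNat.mul (Finset.prod_ne_zero_iff.mpr fun j _ => hne j) (hne m),
      ih, val_pow_even hq hq1 (by omega), Nat.factorial_succ,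
      padicValNat.mul (by omega) (Nat.factorial_ne_zero m)]
    ring

theorem val_prod_gl (m : ℕ) :
    padicValNat 2 (∏ i ∈ Finset.range (2 * m), (q ^ (i + 1) - 1)) =
      m * (padicValNat 2 (q - 1) + padicValNat 2 (q ^ 2 - 1)) + padicValNat 2 m.factorial := by
  induction m with
  | zero => simp
  | succ m ih =>
    have hne : ∀ j, q ^ (j + 1) - 1 ≠ 0 := fun j => by
      have := Nat.one_lt_pow (show j + 1 ≠ 0 by omega) hq1
      omega
    have hp : ∀ l, ∏ i ∈ Finset.range l, (q ^ (i + 1) - 1) ≠ 0 := fun l =>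
      Finset.prod_ne_zero_iff.mpr fun j _ => hne j
    rw [show 2 * (m + 1) = 2 * m + 1 + 1 by ring, Finset.prod_range_succ,
      padicValNat.mul (hp _) (hne _), Finset.prod_range_succ, padicValNat.mul (hp _) (hne _), ih,
      show 2 * m + 1 + 1 = 2 * (m + 1) by ring, val_pow_odd hq hq1, val_pow_even hq hq1 (by omega),
      Nat.factorial_succ, padicValNat.mul (by omega) (Nat.factorial_ne_zero m)]
    ring

end Arith

section GLTwo

variable {F : Type*} [Field F] [Finite F]

theorem one_lt_card_of_odd (hF : Odd (Nat.card F)) : 1 < Nat.card F := Finite.one_lt_card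

open QuaternionGroup in
theorem sqComm_sylow_SL_two (hF : Odd (Nat.card F))
    (P : Sylow 2 (SpecialLinearGroup (Fin 2) F)) :
    SqComm (P : Subgroup (SpecialLinearGroup (Fin 2) F)) := by
  obtain ⟨k, hk, ⟨e⟩⟩ := GLOrder.sylow_two_SL_two hF P
  obtain ⟨j, rfl⟩ : ∃ j, k = j + 1 := ⟨k - 1, by omega⟩
  intro x
  have key : ∀ y : QuaternionGroup (2 ^ (j + 1)), y ^ 2 ∈ commutator (QuaternionGroup (2 ^ (j + 1))) := by
    have ha : ∀ i : ZMod (2 * 2 ^ (j + 1)), a (2 • i) ∈ commutator (QuaternionGroup (2 ^ (j + 1))) := by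
      intro i
      have h1 : a i * xa 0 * (a i)⁻¹ * (xa 0)⁻¹ ∈ commutator (QuaternionGroup (2 ^ (j + 1))) := by
        rw [commutator_def]
        exact Subgroup.commutator_mem_commutator (Subgroup.mem_top _) (Subgroup.mem_top _)
      have e1 : (a i)⁻¹ = (a (-i) : QuaternionGroup (2 ^ (j + 1))) := rfl
      have e2 : (xa 0 : QuaternionGroup (2 ^ (j + 1)))⁻¹ = xa ((2 ^ (j + 1) : ℕ) + 0) := rfl
      rw [e1, e2, a_mul_xa, xa_mul_a, xa_mul_xa] at h1
      convert h1 using 2
      have h0 : ((2 ^ (j + 1) : ℕ) : ZMod (2 * 2 ^ (j + 1))) + (2 ^ (j + 1) : ℕ) = 0 := by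
        rw [← Nat.cast_add, ← two_mul, ZMod.natCast_self]
      linear_combination -h0
    intro y
    cases y with
    | a i =>
      have := ha i
      rwa [show a (2 • i) = (a i : QuaternionGroup (2 ^ (j + 1))) ^ 2 by
        rw [pow_two, a_mul_a, two_nsmul]] at this
    | xa i =>
      rw [pow_two, xa_mul_xa]
      convert ha (2 ^ j : ℕ) using 2
      rw [add_sub_cancel_right, two_nsmul, ← Nat.cast_add, pow_succ, mul_two]
  have h := Subgroup.mem_map_of_mem e.symm.toMonoidHom (key (e x))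
  rw [commutator_def, Subgroup.map_commutator,
    Subgroup.map_top_of_surjective _ e.symm.surjective, ← commutator_def] at h
  simpa using h

/-- `ε ↦ diag(ε, 1)`. -/
noncomputable def diagHom : Fˣ →* GL (Fin 2) F :=
  ((Units.map (Matrix.diagonalRingHom (Fin 2) F).toMonoidHom).comp
    MulEquiv.piUnits.symm.toMonoidHom).comp (MonoidHom.mulSingle (fun _ : Fin 2 => Fˣ) 0)

omit [Finite F] in
theorem det_diagHom (u : Fˣ) : GeneralLinearGroup.det (diagHom u) = u := by
  refine Units.ext ?_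
  rw [GeneralLinearGroup.val_det_apply]
  show Matrix.det (Matrix.diagonal fun i => ((MonoidHom.mulSingle (fun _ : Fin 2 => Fˣ) 0 u i : Fˣ) : F)) = u
  rw [det_diagonal, Fin.prod_univ_two]
  simp

/-- A Sylow `2`-subgroup `W` of `GL_2(q)` containing `d = diag(ε, 1)` with `det W = ⟨ε⟩`. -/
theorem exists_gl_two_data (hF : Odd (Nat.card F)) :
    ∃ (W : Subgroup (GL (Fin 2) F)) (ε : Fˣ),
      Nat.card W = 2 ^ (padicValNat 2 (Nat.card F - 1) + padicValNat 2 (Nat.card F ^ 2 - 1)) ∧
      diagHom ε ∈ W ∧ orderOf ε = 2 ^ padicValNat 2 (Nat.card F - 1) ∧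
      (∀ w ∈ W, GeneralLinearGroup.det w ∈ Subgroup.zpowers ε) ∧
      SqComm (W ⊓ (GeneralLinearGroup.det : GL (Fin 2) F →* Fˣ).ker) := by
  classical
  haveI := Fintype.ofFinite F
  have hq1 : 1 < Nat.card F := one_lt_card_of_odd hF
  set q := Nat.card F
  set a := padicValNat 2 (q - 1)
  obtain ⟨g, hg⟩ := IsCyclic.exists_ofOrder_eq_natCard (α := Fˣ)
  rw [GLOrder.card_units] at hg
  have had : 2 ^ a ∣ q - 1 := pow_padicValNat_dvd
  let ε : Fˣ := g ^ ((q - 1) / 2 ^ a)
  have hε : orderOf ε = 2 ^ a := by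
    have hne : q - 1 ≠ 0 := by omega
    have h2a : 0 < 2 ^ a := Nat.two_pow_pos a
    rw [orderOf_pow_of_dvd (Nat.div_ne_zero_iff.mpr ⟨h2a.ne', Nat.le_of_dvd (by omega) had⟩)
      (by rw [hg]; exact Nat.div_dvd_of_dvd had), hg, Nat.div_div_self had hne]
  have hpd : IsPGroup 2 (Subgroup.zpowers (diagHom ε)) :=
    IsPGroup.of_card (n := a) (by
      rw [Nat.card_zpowers, orderOf_injective diagHom (fun u v h => by
        rw [← det_diagHom u, h, det_diagHom]), hε])
  obtain ⟨W, hW⟩ := hpd.exists_le_sylow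
  refine ⟨W, ε, ?_, hW (Subgroup.mem_zpowers _), hε, fun w hw => ?_, ?_⟩
  · rw [Sylow.card_eq_multiplicity, Nat.factorization_def _ Nat.prime_two, GLOrder.card_GL_two,
      padicValNat.mul (Nat.mul_ne_zero (by omega) (by omega)) (by
        have h1 : 1 < q ^ 2 := Nat.one_lt_pow two_ne_zero hq1
        simp only [q] at *; omega),
      padicValNat.mul (by omega) (by omega),
      show padicValNat 2 q = 0 from padicValNat.eq_zero_of_not_dvd fun h =>
        (Nat.not_even_iff_odd.mpr hF) (even_iff_two_dvd.mpr h), zero_add]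
  · obtain ⟨k, hk⟩ := W.isPGroup' ⟨w, hw⟩
    have h1 : (GeneralLinearGroup.det w) ^ 2 ^ k = 1 := by
      rw [← map_pow, show w ^ 2 ^ k = 1 from congrArg Subtype.val hk, map_one]
    have h2 : orderOf (GeneralLinearGroup.det w) ∣ 2 ^ a := by
      obtain ⟨i, -, hi⟩ := (Nat.dvd_prime_pow Nat.prime_two).mp (orderOf_dvd_of_pow_eq_one h1)
      have h3 : 2 ^ i ∣ q - 1 := by
        rw [← hi, ← GLOrder.card_units (F := F)]
        exact orderOf_dvd_natCard _
      rw [hi]
      exact Nat.pow_dvd_pow 2 ((padicValNat_dvd_iff_le (by omega)).mp h3)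
    haveI : NeZero (2 ^ a) := ⟨(Nat.two_pow_pos a).ne'⟩
    have hprim : IsPrimitiveRoot (ε : F) (2 ^ a) := by
      rw [IsPrimitiveRoot.coe_units_iff, ← hε]
      exact IsPrimitiveRoot.orderOf ε
    obtain ⟨i, -, hi⟩ := hprim.eq_pow_of_pow_eq_one
      (ξ := ((GeneralLinearGroup.det w : Fˣ) : F)) (by
        rw [← Units.val_pow_eq_pow_val, orderOf_dvd_iff_pow_eq_one.mp h2, Units.val_one])
    exact ⟨i, by simp only [zpow_natCast]; exact Units.ext (by simpa using hi)⟩
  · set K := (GeneralLinearGroup.det : GL (Fin 2) F →* Fˣ).ker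
    have hrange : (W : Subgroup (GL (Fin 2) F)) ⊓ K ≤
        (SpecialLinearGroup.toGL : SpecialLinearGroup (Fin 2) F →* GL (Fin 2) F).range := by
      rw [GLOrder.range_toGL]
      exact inf_le_right
    have hnd : ¬ 2 ∣ (((W : Subgroup (GL (Fin 2) F)) ⊓ K).comap
        (SpecialLinearGroup.toGL : SpecialLinearGroup (Fin 2) F →* GL (Fin 2) F)).index := by
      rw [Subgroup.index_comap, GLOrder.range_toGL, Subgroup.inf_relIndex_right]
      exact StrongEmb.not_dvd_relIndex_inf W K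
    have hpg := (W.isPGroup'.to_le (inf_le_left :
      (W : Subgroup (GL (Fin 2) F)) ⊓ K ≤ W)).comap_of_injective _
        (SpecialLinearGroup.toGL_injective (n := Fin 2) (R := F))
    have h := (sqComm_sylow_SL_two hF (hpg.toSylow hnd)).map SpecialLinearGroup.toGL
    have e : Subgroup.map SpecialLinearGroup.toGL
        ((hpg.toSylow hnd : Sylow 2 _) : Subgroup (SpecialLinearGroup (Fin 2) F)) =
        (W : Subgroup (GL (Fin 2) F)) ⊓ K := Subgroup.map_comap_eq_self hrange
    rwa [e] at h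

end GLTwo

end Cfsg.Agent.WreathAb
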