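/-
Sylow `2`-subgroups of `GL_{2m}(q)` and `SL_{2m}(q)` (`q` odd) inside `GL_2(q) ≀ S_m`.

* `exists_gl_sylow`: full base, for `4 ∣ q + 1`
* `exists_sl_sylow`: determinant-one base, for `4 ∣ q + 1` or `m` a power of `2`
-/
import Cfsg.Agent.Lib.WreathAb.GL

set_option autoImplicit false

namespace Cfsg.Agent.WreathAb

open Matrix Equiv

variable {F : Type*} [Field F] [Finite F] {m : ℕ}

omit [Field F] [Finite F] in
theorem val_sub_one_eq_one (hq : 4 ∣ Nat.card F + 1) : padicValNat 2 (Nat.card F - 1) = 1 := by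
  obtain ⟨k, hk⟩ := hq
  rw [show Nat.card F - 1 = 2 * (2 * k - 1) by omega, padicValNat.mul two_ne_zero (by omega),
    padicValNat_self, padicValNat.eq_zero_of_not_dvd (show ¬ 2 ∣ 2 * k - 1 by omega)]

/-- A Sylow `2`-subgroup of `S_{2^j}` containing a regular set of involutions. -/
theorem exists_perm_sylow_swaps (j : ℕ) (i₀ : Fin (2 ^ j)) :
    ∃ T : Subgroup (Perm (Fin (2 ^ j))), Nat.card T = 2 ^ padicValNat 2 (2 ^ j).factorial ∧
      SymSylowGen.GenExp 2 T ∧ ∀ i, ∃ w ∈ T, w i = i₀ ∧ w i₀ = i := by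
  obtain ⟨T₀, hT₀, hgen, -⟩ := SymSylowGen.exists_sylow 2 (2 ^ j)
  let e : Fin (2 ^ j) ≃ (Fin j → ZMod 2) := Fintype.equivOfCardEq (by simp)
  let τ : Multiplicative (Fin j → ZMod 2) →* Perm (Fin (2 ^ j)) :=
    MonoidHom.mk' (fun v => e.trans ((Equiv.addLeft (Multiplicative.toAdd v)).trans e.symm))
      (fun v w => Equiv.ext fun x => by simp [add_assoc])
  have hp : IsPGroup 2 τ.range := by
    rintro ⟨_, v, rfl⟩
    refine ⟨1, Subtype.ext ?_⟩
    show τ v ^ 2 ^ 1 = 1
    rw [pow_one, ← map_pow]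
    refine (congrArg τ ?_).trans (map_one τ)
    refine Multiplicative.toAdd.injective ?_
    rw [toAdd_pow, toAdd_one]
    funext i
    simp only [Pi.smul_apply, nsmul_eq_mul, ZMod.natCast_self, zero_mul, Pi.zero_apply]
  obtain ⟨T, hT⟩ := hp.exists_le_sylow
  let S₀ : Sylow 2 (Perm (Fin (2 ^ j))) := Sylow.ofCard T₀ (by
    rw [hT₀, Nat.card_perm, Nat.card_eq_fintype_card, Fintype.card_fin,
      Nat.factorization_def _ Nat.prime_two])
  refine ⟨T, ?_, ?_, fun i => ⟨τ (Multiplicative.ofAdd (e i + e i₀)), hT ⟨_, rfl⟩, ?_, ?_⟩⟩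
  · rw [Sylow.card_eq_multiplicity, Nat.card_perm, Nat.card_eq_fintype_card, Fintype.card_fin,
      Nat.factorization_def _ Nat.prime_two]
  · obtain ⟨g, rfl⟩ := MulAction.exists_smul_eq (Perm (Fin (2 ^ j))) S₀ T
    exact SymSylowGen.GenExp.map (H := T₀) hgen (MulAut.conj g).toMonoidHom
  · show e.symm ((e i + e i₀) + e i) = i₀
    rw [show (e i + e i₀) + e i = e i₀ by
      funext x
      simp only [Pi.add_apply]
      linear_combination (e i x) * (CharTwo.two_eq_zero (R := ZMod 2)), Equiv.symm_apply_apply]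
  · show e.symm ((e i + e i₀) + e i₀) = i
    rw [show (e i + e i₀) + e i₀ = e i by
      funext x
      simp only [Pi.add_apply]
      linear_combination (e i₀ x) * (CharTwo.two_eq_zero (R := ZMod 2)), Equiv.symm_apply_apply]

omit [Finite F] in
theorem pi_inv_mem {W : Subgroup (GL (Fin 2) F)} {T : Subgroup (Perm (Fin m))} :
    ∀ w ∈ T, ∀ f ∈ Subgroup.pi Set.univ (fun _ : Fin m => W),
      (fun i => f (w⁻¹ i)) ∈ Subgroup.pi Set.univ (fun _ : Fin m => W) :=
  fun _ _ _ hf _ _ => hf _ (Set.mem_univ _)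

omit [Finite F] in
theorem card_pi_const (W : Subgroup (GL (Fin 2) F)) :
    Nat.card (Subgroup.pi Set.univ fun _ : Fin m => W) = Nat.card W ^ m := by
  refine (Nat.card_congr (α := (Subgroup.pi Set.univ fun _ : Fin m => W : Subgroup _))
    (β := Fin m → W)
    { toFun := fun x i => ⟨(x : Fin m → GL (Fin 2) F) i, x.2 i (Set.mem_univ i)⟩
      invFun := fun x => ⟨fun i => x i, fun i _ => (x i).2⟩
      left_inv := fun _ => rfl
      right_inv := fun _ => rfl }).trans ?_
  rw [Nat.card_fun, Nat.card_eq_fintype_card (α := Fin m), Fintype.card_fin]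

omit [Finite F] in
theorem single_mem_pi {W : Subgroup (GL (Fin 2) F)} (i : Fin m) {x : GL (Fin 2) F} (hx : x ∈ W) :
    Pi.mulSingle i x ∈ Subgroup.pi Set.univ fun _ : Fin m => W := fun k _ => by
  show (Pi.mulSingle (M := fun _ : Fin m => GL (Fin 2) F) i x) k ∈ W
  rcases eq_or_ne k i with rfl | hk
  · rwa [Pi.mulSingle_eq_same]
  · rw [Pi.mulSingle_eq_of_ne hk]; exact W.one_mem

/-- Sylow `2`-subgroup of `GL_{2m}(q)` for `4 ∣ q + 1`. -/
theorem exists_gl_sylow (hF : Odd (Nat.card F)) (hq : 4 ∣ Nat.card F + 1) (m : ℕ) :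
    ∃ W : Subgroup (GL (Fin 2 × Fin m) F), SqComm W ∧
      Nat.card W = 2 ^ (m * (padicValNat 2 (Nat.card F - 1) + padicValNat 2 (Nat.card F ^ 2 - 1)) +
        padicValNat 2 m.factorial) := by
  obtain ⟨W2, ε, hcard, hd, hε, hdet, hQ⟩ := exists_gl_two_data hF
  obtain ⟨T, hTcard, hT, -⟩ := SymSylowGen.exists_sylow 2 m
  let S := Subgroup.pi Set.univ fun _ : Fin m => W2
  let W := wreathSub bGL dGL bGL_dGL S T pi_inv_mem
  refine ⟨W, sqComm_wreathSub bGL dGL bGL_dGL S T pi_inv_mem hT fun f hf => ?_, ?_⟩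
  · refine Subgroup.mem_comap.mp (Subgroup.pi_mem_of_mulSingle_mem f fun i => ?_)
    obtain ⟨k, hk⟩ := Subgroup.mem_zpowers_iff.mp (hdet _ (hf i (Set.mem_univ i)))
    have hq' : f i * (diagHom ε ^ k)⁻¹ ∈
        W2 ⊓ (GeneralLinearGroup.det : GL (Fin 2) F →* Fˣ).ker :=
      ⟨W2.mul_mem (hf i (Set.mem_univ i)) (W2.inv_mem (W2.zpow_mem hd k)), by
        refine MonoidHom.mem_ker.mpr ?_
        rw [map_mul, map_inv, map_zpow, det_diagHom, hk, mul_inv_cancel]⟩
    rw [show f i = f i * (diagHom ε ^ k)⁻¹ * diagHom ε ^ k from (inv_mul_cancel_right _ _).symm,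
      Pi.mulSingle_mul, Subgroup.mem_comap, map_mul]
    refine Subgroup.mul_mem _ (single_mem_closure bGL dGL bGL_dGL S T pi_inv_mem hQ i
      (fun x hx => single_mem_pi i hx.1) hq') ?_
    show bGL (MonoidHom.mulSingle (fun _ : Fin m => GL (Fin 2) F) i (diagHom ε ^ k)) ∈ _
    rw [map_zpow, map_zpow]
    refine Subgroup.zpow_mem _ ?_ k
    refine Subgroup.subset_closure ⟨base_le_wreathSub bGL dGL bGL_dGL S T
      pi_inv_mem (Subgroup.mem_map_of_mem _ (single_mem_pi i hd)), ?_⟩
    rw [← map_pow bGL, ← map_pow, ← map_pow diagHom,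
      show ε ^ 2 = 1 by
        have := pow_orderOf_eq_one ε
        rwa [hε, val_sub_one_eq_one hq, pow_one] at this,
      map_one, map_one, map_one]
    exact Subgroup.one_mem _
  · rw [card_wreathSub bGL dGL bGL_dGL S T pi_inv_mem bGL_dGL_inj, card_pi_const, hcard, hTcard,
      ← pow_mul, ← pow_add, mul_comm m]

/-- Sylow `2`-subgroup of `SL_{2m}(q)`. -/
theorem exists_sl_sylow (hF : Odd (Nat.card F)) (hm : 1 ≤ m)
    (hcase : 4 ∣ Nat.card F + 1 ∨ ∃ j, m = 2 ^ j) :
    ∃ W : Subgroup (GL (Fin 2 × Fin m) F), SqComm W ∧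
      W ≤ (GeneralLinearGroup.det : GL (Fin 2 × Fin m) F →* Fˣ).ker ∧
      Nat.card W * 2 ^ padicValNat 2 (Nat.card F - 1) =
        2 ^ (m * (padicValNat 2 (Nat.card F - 1) + padicValNat 2 (Nat.card F ^ 2 - 1)) +
          padicValNat 2 m.factorial) := by
  obtain ⟨W2, ε, hcard, hd, hε, hdet, hQ⟩ := exists_gl_two_data hF
  let i₀ : Fin m := ⟨0, hm⟩
  obtain ⟨T, hTcard, hT, hTswap⟩ : ∃ T : Subgroup (Perm (Fin m)),
      Nat.card T = 2 ^ padicValNat 2 m.factorial ∧ SymSylowGen.GenExp 2 T ∧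
      (ε ^ 2 = 1 ∨ ∀ i, ∃ w ∈ T, w i = i₀ ∧ w i₀ = i) := by
    rcases hcase with h | ⟨j, rfl⟩
    · obtain ⟨T, h1, h2, -⟩ := SymSylowGen.exists_sylow 2 m
      refine ⟨T, h1, h2, Or.inl ?_⟩
      have := pow_orderOf_eq_one ε
      rwa [hε, val_sub_one_eq_one h, pow_one] at this
    · obtain ⟨T, h1, h2, h3⟩ := exists_perm_sylow_swaps j i₀
      exact ⟨T, h1, h2, Or.inr h3⟩
  let P := Subgroup.pi Set.univ fun _ : Fin m => W2
  let δ : (Fin m → GL (Fin 2) F) →* Fˣ :=
    (GeneralLinearGroup.det : GL (Fin 2 × Fin m) F →* Fˣ).comp bGL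
  let S := P ⊓ δ.ker
  have hinv : ∀ w ∈ T, ∀ f ∈ S, (fun i => f (w⁻¹ i)) ∈ S := fun w hw f hf =>
    ⟨pi_inv_mem w hw f hf.1, by
      have h : δ f = 1 := hf.2
      refine MonoidHom.mem_ker.mpr ?_
      rw [← h]
      simp only [δ, MonoidHom.comp_apply, det_bGL]
      exact Fintype.prod_equiv w⁻¹ _ _ fun i => rfl⟩
  let W := wreathSub bGL dGL bGL_dGL S T hinv
  refine ⟨W, sqComm_wreathSub bGL dGL bGL_dGL S T hinv hT fun f hf => ?_, ?_, ?_⟩
  · set K := Subgroup.closure {y | y ∈ W ∧ y ^ 2 ∈ ⁅W, W⁆}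
    let diagPi : (Fin m → Fˣ) →* (Fin m → GL (Fin 2) F) :=
      MonoidHom.mk' (fun u i => diagHom (u i)) fun u v => funext fun i => map_mul diagHom _ _
    let u : Fin m → Fˣ := fun i => GeneralLinearGroup.det (f i)
    have hu : ∀ i, u i ∈ Subgroup.zpowers ε := fun i => hdet _ (hf.1 i (Set.mem_univ i))
    have hprod : ∏ i, u i = 1 := by
      have h : δ f = 1 := hf.2
      simpa only [δ, MonoidHom.comp_apply, det_bGL] using h
    have h1 : bGL (f * (diagPi u)⁻¹) ∈ K := by
      refine Subgroup.mem_comap.mp (Subgroup.pi_mem_of_mulSingle_mem _ fun i => ?_)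
      refine single_mem_closure bGL dGL bGL_dGL S T hinv hQ i (fun x hx => ⟨single_mem_pi i hx.1, ?_⟩) ?_
      · refine MonoidHom.mem_ker.mpr ?_
        simp only [δ, MonoidHom.comp_apply, det_bGL]
        refine Finset.prod_eq_one fun k _ => ?_
        rcases eq_or_ne k i with rfl | hk
        · rw [Pi.mulSingle_eq_same]; exact hx.2
        · rw [Pi.mulSingle_eq_of_ne hk, map_one]
      · refine ⟨W2.mul_mem (hf.1 i (Set.mem_univ i)) (W2.inv_mem ?_), ?_⟩
        · obtain ⟨k, hk⟩ := Subgroup.mem_zpowers_iff.mp (hu i)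
          show diagHom (u i) ∈ W2
          rw [← hk, map_zpow]
          exact W2.zpow_mem hd k
        · refine MonoidHom.mem_ker.mpr ?_
          rw [Pi.mul_apply, Pi.inv_apply, map_mul, map_inv]
          show GeneralLinearGroup.det (f i) * (GeneralLinearGroup.det (diagHom (u i)))⁻¹ = 1
          rw [det_diagHom, mul_inv_cancel]
    have h2 : bGL (diagPi u) ∈ K := by
      let Φ : (Fin m → Fˣ) →* GL (Fin 2 × Fin m) F := bGL.comp diagPi
      show u ∈ K.comap Φ
      let y : Fin m → Fin m → Fˣ := fun i => Pi.mulSingle i ε * (Pi.mulSingle i₀ ε)⁻¹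
      have hy : ∀ i, y i ∈ K.comap Φ := by
        intro i
        have hW : ∀ x : Fin m → Fˣ, (∀ k, x k ∈ Subgroup.zpowers ε) → ∏ k, x k = 1 → Φ x ∈ W := by
          intro x hx hx1
          refine base_le_wreathSub bGL dGL bGL_dGL S T hinv (Subgroup.mem_map_of_mem bGL
            ⟨fun k _ => ?_, ?_⟩)
          · obtain ⟨e, he⟩ := Subgroup.mem_zpowers_iff.mp (hx k)
            show diagHom (x k) ∈ W2
            rw [← he, map_zpow]
            exact W2.zpow_mem hd e
          · refine MonoidHom.mem_ker.mpr ?_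
            simp only [δ, MonoidHom.comp_apply, det_bGL]
            rw [← hx1]
            exact Finset.prod_congr rfl fun k _ => det_diagHom _
        have hyW : Φ (y i) ∈ W := by
          refine hW _ (fun k => ?_) ?_
          · refine Subgroup.mul_mem _ ?_ (Subgroup.inv_mem _ ?_) <;>
            · rw [Pi.mulSingle_apply]
              split_ifs
              exacts [Subgroup.mem_zpowers ε, Subgroup.one_mem _]
          · simp only [y, Pi.mul_apply, Pi.inv_apply, Finset.prod_mul_distrib, Finset.prod_inv_distrib,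
              Finset.prod_pi_mulSingle', Finset.mem_univ, if_true, mul_inv_cancel]
        refine Subgroup.subset_closure ⟨hyW, ?_⟩
        rcases hTswap with h | h
        · have : y i ^ 2 = 1 := by
            simp only [y, mul_pow, inv_pow, ← Pi.mulSingle_pow, h, Pi.mulSingle_one, inv_one, mul_one]
          rw [← map_pow, this, map_one]
          exact Subgroup.one_mem _
        · obtain ⟨w, hw, hw1, hw2⟩ := h i
          have hconj : dGL w * Φ (y i) * (dGL w)⁻¹ = (Φ (y i))⁻¹ := by
            have hw1' : w⁻¹ i₀ = i := Perm.inv_eq_iff_eq.mpr hw1.symm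
            have hw2' : w⁻¹ i = i₀ := Perm.inv_eq_iff_eq.mpr hw2.symm
            show dGL w * bGL (diagPi (y i)) * (dGL w)⁻¹ = _
            rw [bGL_dGL, mul_inv_cancel_right, ← map_inv]
            show _ = bGL (diagPi ((y i)⁻¹))
            refine congrArg bGL (funext fun k => congrArg diagHom ?_)
            simp only [y, Pi.mul_apply, Pi.inv_apply, Pi.mulSingle_apply, _root_.mul_inv_rev, inv_inv]
            have e1 : w⁻¹ k = i ↔ k = i₀ := by
              rw [← hw1']; exact (Equiv.injective _).eq_iff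
            have e2 : w⁻¹ k = i₀ ↔ k = i := by
              rw [← hw2']; exact (Equiv.injective _).eq_iff
            simp only [e1, e2]
          have hc := Subgroup.commutator_mem_commutator hyW
            (top_le_wreathSub bGL dGL bGL_dGL S T hinv (Subgroup.mem_map_of_mem dGL hw))
          rw [commutatorElement_def] at hc
          convert hc using 1
          have h' : dGL w * (Φ (y i))⁻¹ * (dGL w)⁻¹ = Φ (y i) := by
            have := congrArg (fun z => z⁻¹) hconj
            simpa [mul_assoc] using this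
          rw [mul_assoc (Φ (y i)), mul_assoc (Φ (y i)), h', pow_two]
      choose k hk using fun i => Subgroup.mem_zpowers_iff.mp (hu i)
      have hsum : u = ∏ i, y i ^ k i := by
        funext l
        simp only [Finset.prod_apply, y, Pi.pow_apply, Pi.mul_apply, Pi.inv_apply, mul_zpow,
          _root_.inv_zpow, Finset.prod_mul_distrib, Finset.prod_inv_distrib, Pi.mulSingle_apply,
          ite_pow, _root_.one_zpow, Finset.prod_ite_eq, Finset.mem_univ, if_true]
        rw [hk]
        split_ifs with hl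
        · rw [Finset.prod_congr rfl fun i _ => hk i, hprod, inv_one, mul_one]
        · simp
      rw [hsum]
      exact Subgroup.prod_mem _ fun i _ => Subgroup.zpow_mem _ (hy i) _
    have := Subgroup.mul_mem _ h1 h2
    rwa [← map_mul, inv_mul_cancel_right] at this
  · rintro _ ⟨f, hf, w, -, rfl⟩
    rw [MonoidHom.mem_ker, map_mul, det_dGL, mul_one]
    exact hf.2
  · rw [card_wreathSub bGL dGL bGL_dGL S T hinv bGL_dGL_inj, hTcard]
    let ψ := δ.comp P.subtype
    have hker : Nat.card S = Nat.card ψ.ker := by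
      refine Nat.card_congr
        { toFun := fun x => ⟨⟨x, x.2.1⟩, x.2.2⟩
          invFun := fun x => ⟨(x : P), (x : P).2, x.2⟩
          left_inv := fun _ => rfl
          right_inv := fun _ => rfl }
    have hrange : ψ.range = Subgroup.zpowers ε := by
      refine le_antisymm ?_ ((Subgroup.zpowers_le).mpr ⟨⟨_, single_mem_pi i₀ hd⟩, ?_⟩)
      · rintro _ ⟨⟨f, hf⟩, rfl⟩
        simp only [ψ, δ, MonoidHom.comp_apply, Subgroup.subtype_apply, det_bGL]
        exact Subgroup.prod_mem _ fun i _ => hdet _ (hf i (Set.mem_univ i))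
      · simp only [ψ, δ, MonoidHom.comp_apply, Subgroup.subtype_apply, det_bGL]
        rw [Finset.prod_eq_single i₀ (fun k _ hk => by rw [Pi.mulSingle_eq_of_ne hk, map_one])
          (fun h => absurd (Finset.mem_univ _) h), Pi.mulSingle_eq_same, det_diagHom]
    have h := ψ.ker.card_mul_index
    rw [Subgroup.index_ker, hrange, Nat.card_zpowers, hε, ← hker, card_pi_const, hcard] at h
    rw [pow_add, mul_comm m, pow_mul, ← h]
    ring

omit [Field F] [Finite F] in
/-- In terms of `factorization`: the 2-part of `|GL_n(q)|`. -/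
theorem factorization_card_GL [Field F] [Finite F] (hF : Odd (Nat.card F)) (n : ℕ) :
    (Nat.card (GL (Fin n) F)).factorization 2 =
      padicValNat 2 (∏ i ∈ Finset.range n, (Nat.card F ^ (i + 1) - 1)) := by
  have h1 := GLOrder.one_lt_card_field (F := F)
  rw [Nat.factorization_def _ Nat.prime_two, GLOrder.card_GL',
    padicValNat.mul (pow_ne_zero _ (by omega))
      (Finset.prod_ne_zero_iff.mpr fun i _ => by
        have := Nat.one_lt_pow (show i + 1 ≠ 0 by omega) h1
        omega),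
    padicValNat.eq_zero_of_not_dvd (fun h => ?_), zero_add]
  have := Nat.prime_two.dvd_of_dvd_pow h
  obtain ⟨k, hk⟩ := hF
  omega

/-- The 2-part of `|SL_n(q)|`. -/
theorem factorization_card_SL (hF : Odd (Nat.card F)) (n : ℕ) [NeZero n] :
    padicValNat 2 (Nat.card F - 1) + (Nat.card (SpecialLinearGroup (Fin n) F)).factorization 2 =
      padicValNat 2 (∏ i ∈ Finset.range n, (Nat.card F ^ (i + 1) - 1)) := by
  have h1 := GLOrder.one_lt_card_field (F := F)
  rw [← factorization_card_GL hF, ← GLOrder.card_SL_mul (ι := Fin n), Nat.factorization_def _ Nat.prime_two,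
    Nat.factorization_def _ Nat.prime_two, padicValNat.mul (by omega) Nat.card_pos.ne']

end Cfsg.Agent.WreathAb
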