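/-
The circle group `c² + d² = 1` over a finite field of odd order.

* `exists_rotation` : a rotation of order `2 ^ a`, where `a + 1 = v₂(q² - 1)`, whose half angle is not
  rational (`2 (1 + c)` is not a square)
-/
import Cfsg.Agent.EqLemmas

set_option autoImplicit false

namespace Cfsg.Agent.WreathAb

open Matrix

variable {F : Type*} [Field F]

/-- The rotations. -/
def circ (F : Type*) [Field F] : Subgroup (SpecialLinearGroup (Fin 2) F) where
  carrier := {g | g.1 0 0 = g.1 1 1 ∧ g.1 1 0 = -g.1 0 1}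
  one_mem' := by simp
  mul_mem' := by
    rintro g h ⟨g1, g2⟩ ⟨h1, h2⟩
    show (g.1 * h.1) 0 0 = (g.1 * h.1) 1 1 ∧ (g.1 * h.1) 1 0 = -(g.1 * h.1) 0 1
    simp only [Matrix.mul_apply, Fin.sum_univ_two]
    rw [g1, g2, h1, h2]
    constructor <;> ring
  inv_mem' := by
    rintro g ⟨g1, g2⟩
    show g.1.adjugate 0 0 = g.1.adjugate 1 1 ∧ g.1.adjugate 1 0 = -g.1.adjugate 0 1
    rw [Matrix.adjugate_fin_two]
    exact ⟨g1.symm, by simp [g2]⟩

theorem circ_sq_add_sq (g : circ F) : (g.1.1 0 0) ^ 2 + (g.1.1 1 0) ^ 2 = 1 := by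
  have h := g.1.2
  rw [Matrix.det_fin_two] at h
  linear_combination h + (g.1.1 0 0) * g.2.1 + (g.1.1 1 0) * g.2.2

/-- The rotation with given cosine and sine. -/
def mkCirc (c d : F) (h : c ^ 2 + d ^ 2 = 1) : circ F :=
  ⟨⟨!![c, -d; d, c], by rw [Matrix.det_fin_two_of]; linear_combination h⟩, by
    constructor <;> simp⟩

theorem circ_ext {g h : circ F} (h0 : g.1.1 0 0 = h.1.1 0 0) (h1 : g.1.1 1 0 = h.1.1 1 0) : g = h := by
  refine Subtype.ext (Subtype.ext (Matrix.ext fun i j => ?_))
  fin_cases i <;> fin_cases j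
  · exact h0
  · show g.1.1 0 1 = h.1.1 0 1
    linear_combination g.2.2 - h.2.2 - h1
  · exact h1
  · show g.1.1 1 1 = h.1.1 1 1
    linear_combination h0 - g.2.1 + h.2.1

theorem circ_mul_00 (g h : circ F) :
    (g * h).1.1 0 0 = g.1.1 0 0 * h.1.1 0 0 - g.1.1 1 0 * h.1.1 1 0 := by
  show (g.1.1 * h.1.1) 0 0 = _
  simp only [Matrix.mul_apply, Fin.sum_univ_two]
  linear_combination (h.1.1 1 0) * g.2.2

theorem circ_mul_10 (g h : circ F) :
    (g * h).1.1 1 0 = g.1.1 1 0 * h.1.1 0 0 + g.1.1 0 0 * h.1.1 1 0 := by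
  show (g.1.1 * h.1.1) 1 0 = _
  simp only [Matrix.mul_apply, Fin.sum_univ_two]
  linear_combination (-(h.1.1 1 0)) * g.2.1

theorem isCyclic_circ [Finite F] (h2' : (2 : F) ≠ 0) : IsCyclic (circ F) := by
  obtain ⟨z, hz⟩ := IsAlgClosed.exists_eq_mul_self (-1 : AlgebraicClosure F)
  let φ := algebraMap F (AlgebraicClosure F)
  let f : circ F →* AlgebraicClosure F :=
    { toFun := fun g => φ (g.1.1 0 0) + z * φ (g.1.1 1 0)
      map_one' := by simp [φ]
      map_mul' := fun g h => by
        rw [circ_mul_00, circ_mul_10, map_sub, map_add, map_mul, map_mul, map_mul, map_mul]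
        linear_combination (φ (g.1.1 1 0) * φ (h.1.1 1 0)) * hz }
  refine isCyclic_of_subgroup_isDomain f ((injective_iff_map_eq_one f).mpr fun g hg => ?_)
  have h1 : φ (g.1.1 0 0) + z * φ (g.1.1 1 0) = 1 := hg
  have h2 := congrArg φ (circ_sq_add_sq g)
  rw [map_add, map_pow, map_pow, map_one] at h2
  have hconj : φ (g.1.1 0 0) - z * φ (g.1.1 1 0) = 1 := by
    calc _ = (φ (g.1.1 0 0) + z * φ (g.1.1 1 0)) * (φ (g.1.1 0 0) - z * φ (g.1.1 1 0)) := by
          rw [h1, one_mul]
      _ = φ (g.1.1 0 0) ^ 2 + φ (g.1.1 1 0) ^ 2 := by linear_combination (φ (g.1.1 1 0) ^ 2) * hz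
      _ = 1 := h2
  have hd : φ (g.1.1 1 0) = 0 := by
    have hz0 : z ≠ 0 := fun h => by rw [h] at hz; simp at hz
    have h2K : (2 : AlgebraicClosure F) ≠ 0 := by
      rw [← map_ofNat φ 2]; exact (map_ne_zero φ).mpr h2'
    have : (2 * z) * φ (g.1.1 1 0) = 0 := by linear_combination h1 - hconj
    exact (mul_eq_zero.mp this).resolve_left (mul_ne_zero h2K hz0)
  refine circ_ext ?_ ?_
  · refine φ.injective ?_
    rw [hd, mul_zero, add_zero] at h1
    simpa using h1
  · refine φ.injective ?_
    simpa using hd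

/-- Number of points of the circle, by the stereographic projection. -/
theorem card_circ_add [Finite F] (h2' : (2 : F) ≠ 0) :
    Nat.card (circ F) + Nat.card {t : F // t * t = -1} = Nat.card F + 1 := by
  classical
  haveI := Fintype.ofFinite F
  let P : F → Prop := fun t => t * t = -1
  have hden : ∀ t : F, ¬ P t → 1 + t * t ≠ 0 := fun t ht h => ht (by linear_combination h)
  let toC : Option {t : F // ¬ P t} → circ F := fun o => o.elim (mkCirc (-1) 0 (by ring))
    fun t => mkCirc ((1 - t.1 * t.1) / (1 + t.1 * t.1)) (2 * t.1 / (1 + t.1 * t.1)) (by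
      have := hden t.1 t.2
      rw [div_pow, div_pow, ← add_div, div_eq_one_iff_eq (pow_ne_zero _ this)]
      ring)
  have h00 : ∀ c d h, (mkCirc (F := F) c d h).1.1 0 0 = c := fun _ _ _ => rfl
  have h10 : ∀ c d h, (mkCirc (F := F) c d h).1.1 1 0 = d := fun _ _ _ => rfl
  have hne : ∀ t : {t : F // ¬ P t}, (1 - t.1 * t.1) / (1 + t.1 * t.1) ≠ -1 := fun t h => by
    rw [div_eq_iff (hden t.1 t.2)] at h
    exact h2' (by linear_combination h)
  have hbij : Function.Bijective toC := by
    constructor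
    · rintro (_ | s) (_ | t) h
      · rfl
      · exact absurd (congrArg (fun g : circ F => g.1.1 0 0) h).symm
          (by simpa only [toC, Option.elim, h00] using hne t)
      · exact absurd (congrArg (fun g : circ F => g.1.1 0 0) h)
          (by simpa only [toC, Option.elim, h00] using hne s)
      · have e0 := congrArg (fun g : circ F => g.1.1 0 0) h
        have e1 := congrArg (fun g : circ F => g.1.1 1 0) h
        simp only [toC, Option.elim, h00, h10] at e0 e1
        have ks := hden s.1 s.2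
        have kt := hden t.1 t.2
        rw [div_eq_div_iff ks kt] at e0 e1
        have e2 : (s.1 * s.1 - t.1 * t.1) = 0 := by
          refine (mul_eq_zero.mp (show (2 : F) * (s.1 * s.1 - t.1 * t.1) = 0 by
            linear_combination -e0)).resolve_left h2'
        have e3 : (2 : F) * (1 + s.1 * s.1) * (s.1 - t.1) = 0 := by
          linear_combination e1 + 2 * s.1 * e2
        exact congrArg some (Subtype.ext (sub_eq_zero.mp
          ((mul_eq_zero.mp e3).resolve_left (mul_ne_zero h2' ks))))
    · intro g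
      have hg := circ_sq_add_sq g
      by_cases hc : g.1.1 0 0 = -1
      · refine ⟨none, circ_ext hc.symm ?_⟩
        have : (g.1.1 1 0) ^ 2 = 0 := by rw [hc] at hg; linear_combination hg
        exact (pow_eq_zero_iff two_ne_zero).mp this |>.symm
      · have hc' : 1 + g.1.1 0 0 ≠ 0 := fun h => hc (by linear_combination h)
        set t := g.1.1 1 0 / (1 + g.1.1 0 0) with ht
        have hval : 1 + t * t = 2 / (1 + g.1.1 0 0) := by
          rw [ht]; field_simp; linear_combination hg
        have hP : ¬ P t := fun h => by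
          have h0 : 1 + t * t = 0 := by show 1 + t * t = 0; rw [h]; ring
          rw [hval] at h0
          exact (div_ne_zero h2' hc') h0
        refine ⟨some ⟨t, hP⟩, circ_ext ?_ ?_⟩
        · show (1 - t * t) / (1 + t * t) = _
          rw [show 1 - t * t = 2 - (1 + t * t) by ring, hval]; field_simp; ring
        · show 2 * t / (1 + t * t) = _
          rw [hval, ht]; field_simp
  rw [← Nat.card_congr (Equiv.ofBijective toC hbij), Finite.card_option, add_right_comm,
    add_left_inj, add_comm, ← Nat.card_sum]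
  exact Nat.card_congr (Equiv.sumCompl P)

/-- The 2-part of the order of the circle. -/
theorem val_card_circ [Finite F] (hF : Odd (Nat.card F)) :
    padicValNat 2 (Nat.card (circ F)) + 1 = padicValNat 2 (Nat.card F ^ 2 - 1) := by
  classical
  haveI := Fintype.ofFinite F
  have hq1 : 1 < Nat.card F := Finite.one_lt_card
  have hch : ringChar F ≠ 2 := fun h => by
    have := FiniteField.even_card_iff_char_two.1 h
    rw [← Nat.card_eq_fintype_card] at this
    obtain ⟨k, hk⟩ := hF
    omega
  have h2' : (2 : F) ≠ 0 := Ring.two_ne_zero hch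
  have hadd := card_circ_add (F := F) h2'
  have hsq := FiniteField.isSquare_neg_one_iff (F := F)
  rw [← Nat.card_eq_fintype_card] at hsq
  rw [show Nat.card F ^ 2 - 1 = (Nat.card F + 1) * (Nat.card F - 1) by
    rw [← one_pow 2, Nat.sq_sub_sq, one_pow], padicValNat.mul (by omega) (by omega)]
  by_cases h : IsSquare (-1 : F)
  · obtain ⟨i, hi⟩ := h
    have hne : i ≠ -i := fun e => by
      have : (2 : F) * i = 0 := by linear_combination e
      rcases mul_eq_zero.mp this with h | h
      · exact h2' h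
      · rw [h] at hi; simp at hi
    have hcard : Nat.card {t : F // t * t = -1} = 2 := by
      rw [Nat.card_eq_fintype_card, Fintype.card_subtype,
        show (Finset.univ.filter fun t : F => t * t = -1) = {i, -i} by
          ext t
          simp only [Finset.mem_filter, Finset.mem_univ, true_and, Finset.mem_insert,
            Finset.mem_singleton, hi, mul_self_eq_mul_self_iff],
        Finset.card_pair hne]
    have h4 := hsq.mp ⟨i, hi⟩
    obtain ⟨k, hk⟩ : ∃ k, Nat.card F + 1 = 2 * (2 * k + 1) := ⟨Nat.card F / 4, by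
      obtain ⟨r, hr⟩ := hF; omega⟩
    have hv : padicValNat 2 (Nat.card F + 1) = 1 := by
      rw [hk, padicValNat.mul two_ne_zero (by omega), padicValNat_self,
        padicValNat.eq_zero_of_not_dvd (show ¬ 2 ∣ 2 * k + 1 by omega)]
    rw [show Nat.card (circ F) = Nat.card F - 1 by omega, hv, add_comm]
  · have hcard : Nat.card {t : F // t * t = -1} = 0 := by
      haveI : IsEmpty {t : F // t * t = -1} := ⟨fun t => h ⟨t.1, t.2.symm⟩⟩
      exact Nat.card_of_isEmpty
    have h4 : Nat.card F % 4 = 3 := by by_contra h3; exact h (hsq.mpr h3)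
    obtain ⟨k, hk⟩ : ∃ k, Nat.card F - 1 = 2 * (2 * k + 1) := ⟨Nat.card F / 4, by omega⟩
    have hv : padicValNat 2 (Nat.card F - 1) = 1 := by
      rw [hk, padicValNat.mul two_ne_zero (by omega), padicValNat_self,
        padicValNat.eq_zero_of_not_dvd (show ¬ 2 ∣ 2 * k + 1 by omega)]
    rw [show Nat.card (circ F) = Nat.card F + 1 by omega, hv]

/-- A rotation of maximal `2`-power order; its half angle is irrational. -/
theorem exists_rotation [Finite F] (hF : Odd (Nat.card F)) :
    ∃ g : circ F, orderOf g = 2 ^ padicValNat 2 (Nat.card (circ F)) ∧ 1 + g.1.1 0 0 ≠ 0 ∧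
      ¬ IsSquare (2 * (1 + g.1.1 0 0)) := by
  classical
  haveI := Fintype.ofFinite F
  have hch : ringChar F ≠ 2 := fun h => by
    have := FiniteField.even_card_iff_char_two.1 h
    rw [← Nat.card_eq_fintype_card] at this
    obtain ⟨k, hk⟩ := hF
    omega
  have h2' : (2 : F) ≠ 0 := Ring.two_ne_zero hch
  haveI := isCyclic_circ (F := F) h2'
  set a := padicValNat 2 (Nat.card (circ F))
  obtain ⟨g, hg⟩ := IsCyclic.exists_ofOrder_eq_natCard (α := circ F)
  have hdvd : 2 ^ a ∣ orderOf g := hg ▸ pow_padicValNat_dvd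
  obtain ⟨x, hx⟩ : ∃ x : circ F, orderOf x = 2 ^ a :=
    ⟨g ^ (orderOf g / 2 ^ a), orderOf_pow_orderOf_div (orderOf_pos g).ne' hdvd⟩
  have ha : 2 ≤ a := by
    have h8 : 3 ≤ padicValNat 2 (Nat.card F ^ 2 - 1) := by
      obtain ⟨k, hk⟩ := hF
      have hpos : Nat.card F ^ 2 - 1 ≠ 0 := by
        have := Nat.one_lt_pow (two_ne_zero) (Finite.one_lt_card (α := F)); omega
      rw [← padicValNat_dvd_iff_le hpos, hk]
      obtain ⟨j, hj⟩ : 2 ∣ k * (k + 1) := (Nat.even_mul_succ_self k).two_dvd
      exact ⟨j, by rw [show (2 * k + 1) ^ 2 = 4 * (k * (k + 1)) + 1 by ring, hj]; omega⟩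
    have := val_card_circ hF
    omega
  have hc : 1 + x.1.1 0 0 ≠ 0 := by
    intro h
    have hc1 : x.1.1 0 0 = -1 := by linear_combination h
    have hd : x.1.1 1 0 = 0 := by
      have h' := circ_sq_add_sq x
      rw [hc1] at h'
      exact (pow_eq_zero_iff two_ne_zero).mp (by linear_combination h')
    have hx2 : x ^ 2 = 1 := circ_ext
      (by rw [pow_two, circ_mul_00, hc1, hd]; simp)
      (by rw [pow_two, circ_mul_10, hc1, hd]; simp)
    have h4 := Nat.le_of_dvd two_pos (orderOf_dvd_of_pow_eq_one hx2)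
    rw [hx] at h4
    have := Nat.pow_le_pow_right two_pos ha
    omega
  refine ⟨x, hx, hc, fun ⟨w, hw⟩ => ?_⟩
  have hw0 : w ≠ 0 := fun h => mul_ne_zero h2' hc (by rw [hw, h, zero_mul])
  have hcs := circ_sq_add_sq x
  have hh : ((1 + x.1.1 0 0) / w) ^ 2 + (x.1.1 1 0 / w) ^ 2 = 1 := by
    field_simp; linear_combination hcs + hw
  have hy : mkCirc _ _ hh ^ 2 = x := circ_ext
    (by
      rw [pow_two, circ_mul_00]
      show (1 + x.1.1 0 0) / w * ((1 + x.1.1 0 0) / w) - x.1.1 1 0 / w * (x.1.1 1 0 / w) = _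
      field_simp; linear_combination -hcs + (x.1.1 0 0) * hw)
    (by
      rw [pow_two, circ_mul_10]
      show x.1.1 1 0 / w * ((1 + x.1.1 0 0) / w) + (1 + x.1.1 0 0) / w * (x.1.1 1 0 / w) = _
      field_simp; linear_combination (x.1.1 1 0) * hw)
  have hord : orderOf (mkCirc _ _ hh) = 2 ^ (a + 1) := by
    refine orderOf_eq_prime_pow (p := 2) ?_ ?_
    · rw [show 2 ^ a = 2 * 2 ^ (a - 1) by rw [← pow_succ']; congr 1; omega, pow_mul, hy]
      exact pow_ne_one_of_lt_orderOf (pow_ne_zero _ two_ne_zero)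
        (by rw [hx]; exact Nat.pow_lt_pow_right one_lt_two (by omega))
    · rw [pow_succ', pow_mul, hy, ← hx, pow_orderOf_eq_one]
  exact pow_succ_padicValNat_not_dvd (p := 2) (Nat.card_pos (α := circ F)).ne'
    (hord ▸ orderOf_dvd_natCard _)

end Cfsg.Agent.WreathAb
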