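/-
Sylow `2`-subgroups of orthogonal groups in odd characteristic, for a form with an orthogonal basis
made of `n` pairs of vectors of norm `1` and a set `R` of further vectors.

* `sqComm_sylow_omega` : if `|O(Q)|₂ = 2 ^ (n * v₂(q² - 1) + v₂(n!) + |R|)` then the Sylow `2`-subgroups
  of `Ω(Q)` have elementary abelian abelianization
-/
import Cfsg.Agent.Lib.WreathAb.Basic
import Cfsg.Agent.Lib.WreathAb.Circle
import Cfsg.Agent.Lib.Orth.Spinor

set_option autoImplicit false
set_option linter.style.haveILetI false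
set_option linter.unusedSectionVars false

namespace Cfsg.Agent.WreathAb

open Cfsg Equiv Cfsg.Agent.Orth
open QuadraticMap (polar)

/-- The group generated by two involutions. -/
theorem card_closure_pair {G : Type*} [Group G] [Finite G] (s t : G) (hs : s * s = 1) (ht : t * t = 1)
    (hst : s ∉ Subgroup.zpowers (s * t)) :
    Nat.card (Subgroup.closure ({s, t} : Set G)) = 2 * orderOf (s * t) := by
  have hsi : s⁻¹ = s := inv_eq_of_mul_eq_one_right hs
  have hti : t⁻¹ = t := inv_eq_of_mul_eq_one_right ht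
  set r := s * t with hr
  have ht' : t = s * r := by rw [hr, ← mul_assoc, hs, one_mul]
  have hconj : ∀ k : ℤ, s * r ^ k * s⁻¹ = r ^ (-k) := fun k => by
    rw [← conj_zpow, show s * r * s⁻¹ = r⁻¹ by
      rw [hsi, hr, mul_inv_rev, hsi, hti, ← mul_assoc s, hs, one_mul], inv_zpow']
  have hsr : ∀ k : ℤ, s * r ^ k = r ^ (-k) * s := fun k => by
    rw [← hconj k, inv_mul_cancel_right]
  have key : ∀ x ∈ Subgroup.closure ({s, t} : Set G), ∃ k : ℤ, x = r ^ k ∨ x = r ^ k * s := by
    intro x hx
    induction hx using Subgroup.closure_induction_left with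
    | one => exact ⟨0, Or.inl (zpow_zero r).symm⟩
    | mul_left g hg y _ ih =>
      obtain ⟨k, rfl | rfl⟩ := ih <;> rcases hg with rfl | rfl
      · exact ⟨-k, Or.inr (hsr k)⟩
      · exact ⟨-(1 + k), Or.inr (by rw [ht', mul_assoc, ← hsr, zpow_add, zpow_one])⟩
      · exact ⟨-k, Or.inl (by rw [← mul_assoc, hsr, mul_assoc, hs, mul_one])⟩
      · exact ⟨-(1 + k), Or.inl (by
          rw [ht', ← mul_assoc, mul_assoc s r, ← zpow_one_add, hsr, mul_assoc, hs, mul_one])⟩
    | inv_mul_cancel g hg y _ ih =>
      have hg' : g⁻¹ = g := by rcases hg with rfl | rfl <;> assumption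
      rw [hg']
      obtain ⟨k, rfl | rfl⟩ := ih <;> rcases hg with rfl | rfl
      · exact ⟨-k, Or.inr (hsr k)⟩
      · exact ⟨-(1 + k), Or.inr (by rw [ht', mul_assoc, ← hsr, zpow_add, zpow_one])⟩
      · exact ⟨-k, Or.inl (by rw [← mul_assoc, hsr, mul_assoc, hs, mul_one])⟩
      · exact ⟨-(1 + k), Or.inl (by
          rw [ht', ← mul_assoc, mul_assoc s r, ← zpow_one_add, hsr, mul_assoc, hs, mul_one])⟩
  have hsmem : s ∈ Subgroup.closure ({s, t} : Set G) := Subgroup.subset_closure (Or.inl rfl)
  have htmem : t ∈ Subgroup.closure ({s, t} : Set G) := Subgroup.subset_closure (Or.inr rfl)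
  have hle : Subgroup.zpowers r ≤ Subgroup.closure ({s, t} : Set G) :=
    Subgroup.zpowers_le.mpr (Subgroup.mul_mem _ hsmem htmem)
  have hidx : (Subgroup.zpowers r).relIndex (Subgroup.closure ({s, t} : Set G)) = 2 := by
    rw [Subgroup.relIndex, Subgroup.index_eq_two_iff]
    refine ⟨⟨s, hsmem⟩, fun x => ?_⟩
    simp only [Subgroup.mem_subgroupOf, Subgroup.coe_mul]
    obtain ⟨k, hk | hk⟩ := key x x.2 <;> rw [hk]
    · refine Or.inr ⟨⟨k, rfl⟩, fun h => hst ?_⟩
      simpa using Subgroup.mul_mem _ (Subgroup.inv_mem _ (Subgroup.mem_zpowers_iff.mpr ⟨k, rfl⟩)) h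
    · refine Or.inl ⟨?_, fun h => hst ?_⟩
      · rw [mul_assoc, hs, mul_one]; exact ⟨k, rfl⟩
      · simpa using Subgroup.mul_mem _ (Subgroup.inv_mem _ (Subgroup.mem_zpowers_iff.mpr ⟨k, rfl⟩)) h
  rw [← Subgroup.index_mul_card ((Subgroup.zpowers r).subgroupOf (Subgroup.closure ({s, t} : Set G))),
    ← Subgroup.relIndex, hidx, Nat.card_congr (Subgroup.subgroupOfEquivOfLe hle).toEquiv,
    Nat.card_zpowers]

section Orthogonal

variable {ι : Type} [Fintype ι] [DecidableEq ι] {F : Type*} [Field F] [Fintype F]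
variable {Q : QuadraticForm F (ι → F)}
variable {n : ℕ} {R : Type*} [Fintype R] (b : Module.Basis ((Fin n × Fin 2) ⊕ R) F (ι → F))

/-- An orthogonal frame of `n` pairs of unit vectors and further vectors. -/
structure Frame (Q : QuadraticForm F (ι → F)) : Prop where
  orth : ∀ k l, k ≠ l → polar ⇑Q (b k) (b l) = 0
  unit : ∀ p, Q (b (.inl p)) = 1

/-- The two reflection vectors of a block. -/
noncomputable def gvec (x y : F) : Fin n ⊕ R → Fin 2 → (ι → F)
  | .inl i, 0 => b (.inl (i, 0))
  | .inl i, 1 => x • b (.inl (i, 0)) + y • b (.inl (i, 1))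
  | .inr r, _ => b (.inr r)

/-- The block of an index. -/
def blockOf : (Fin n × Fin 2) ⊕ R → Fin n ⊕ R := Sum.map Prod.fst id

/-- Vectors orthogonal to a block. -/
def Off (Q : QuadraticForm F (ι → F)) (j : Fin n ⊕ R) (z : ι → F) : Prop :=
  ∀ k, blockOf k = j → polar ⇑Q (b k) z = 0

variable {b}

theorem Frame.Q_ne_zero (hf : Frame b Q) (hG : Good Q) (k) : Q (b k) ≠ 0 := by
  intro h
  have hzero : Q.polarBilin (b k) = 0 := b.ext fun l => by
    rw [QuadraticMap.polarBilin_apply_apply, LinearMap.zero_apply]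
    rcases eq_or_ne k l with rfl | hl
    · rw [pl_self, h, mul_zero]
    · exact hf.orth _ _ hl
  exact b.ne_zero k (hG.nd.1 (b k) fun y => by rw [hzero]; rfl)

theorem Frame.gvec_orth (hf : Frame b Q) (x y : F) (j : Fin n ⊕ R) (a : Fin 2) {z : ι → F}
    (hz : Off b Q j z) : polar ⇑Q (gvec b x y j a) z = 0 := by
  match j, a with
  | .inl i, 0 => exact hz (.inl (i, 0)) rfl
  | .inl i, 1 =>
    simp only [gvec, pl_add_left, pl_smul_left]
    rw [hz (.inl (i, 0)) rfl, hz (.inl (i, 1)) rfl, mul_zero, mul_zero, add_zero]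
  | .inr r, _ => exact hz (.inr r) rfl

theorem Frame.off_basis (hf : Frame b Q) {j : Fin n ⊕ R} {k} (hk : blockOf k ≠ j) :
    Off b Q j (b k) := fun l hl => hf.orth l k fun h => hk (h ▸ hl)

theorem Frame.off_gvec (hf : Frame b Q) (x y : F) {j j' : Fin n ⊕ R} (hj : j ≠ j') (a : Fin 2) :
    Off b Q j (gvec b x y j' a) := fun k hk => by
  rw [pl_comm]
  exact hf.gvec_orth x y j' a (hf.off_basis (hk ▸ hj))

variable (b)

/-- The dihedral group of a block. -/
noncomputable def blockGrp (Q : QuadraticForm F (ι → F)) (x y : F) (j : Fin n ⊕ R) : Subgroup (IsoGrp Q) :=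
  Subgroup.closure {refl Q (gvec b x y j 0), refl Q (gvec b x y j 1)}

/-- The base group. -/
noncomputable def baseGrp (Q : QuadraticForm F (ι → F)) (x y : F) : Subgroup (IsoGrp Q) :=
  ⨆ j, blockGrp b Q x y j

/-- Permutations of the basis moving the blocks. -/
def permIdx (w : Perm (Fin n)) : (Fin n × Fin 2) ⊕ R → (Fin n × Fin 2) ⊕ R :=
  Sum.map (fun p => (w p.1, p.2)) id

variable {b}

theorem Frame.fix_off (hf : Frame b Q) (x y : F) {j : Fin n ⊕ R} {g : IsoGrp Q}
    (hg : g ∈ blockGrp b Q x y j) {z : ι → F} (hz : Off b Q j z) : ap g z = z := by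
  induction hg using Subgroup.closure_induction generalizing z with
  | mem g hg =>
    rcases hg with rfl | rfl <;> exact refl_ap_of_orth Q (hf.gvec_orth x y j _ hz)
  | one => exact ap_one z
  | mul g h _ _ ihg ihh => rw [ap_mul, ihh hz, ihg hz]
  | inv g _ ih =>
    conv_lhs => rw [← ih hz]
    exact ap_inv_ap g z

theorem Frame.commute_blocks (hf : Frame b Q) (x y : F) {j j' : Fin n ⊕ R} (hj : j ≠ j')
    {g h : IsoGrp Q} (hg : g ∈ blockGrp b Q x y j) (hh : h ∈ blockGrp b Q x y j') : Commute g h := by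
  induction hh using Subgroup.closure_induction with
  | mem h hh =>
    rcases hh with rfl | rfl <;>
    · show _ * _ = _ * _
      rw [mul_refl, hf.fix_off x y hg (hf.off_gvec x y hj _)]
  | one => exact Commute.one_right g
  | mul a c _ _ ha hc => exact ha.mul_right hc
  | inv a _ ha => exact ha.inv_right

/-- The data for the construction. -/
structure Data (Q : QuadraticForm F (ι → F)) (b : Module.Basis ((Fin n × Fin 2) ⊕ R) F (ι → F))
    (x y : F) : Prop where
  frame : Frame b Q
  good : Good Q
  two_ne : (2 : F) ≠ 0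
  nonsq : ¬ IsSquare (x * x + y * y)

variable {x y : F}

theorem Data.Q_gvec_one (hd : Data Q b x y) (i : Fin n) :
    Q (gvec b x y (.inl i) 1) = x * x + y * y := by
  simp only [gvec, Q_add, Q_smul, pl_smul_left, pl_smul_right, hd.frame.unit,
    hd.frame.orth (.inl (i, 0)) (.inl (i, 1)) (by simp)]
  ring

theorem Data.Q_gvec_ne_zero (hd : Data Q b x y) (j : Fin n ⊕ R) (a : Fin 2) :
    Q (gvec b x y j a) ≠ 0 := by
  match j, a with
  | .inl i, 0 => exact hd.frame.Q_ne_zero hd.good _
  | .inl i, 1 => rw [hd.Q_gvec_one]; exact fun h => hd.nonsq (h ▸ IsSquare.zero)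
  | .inr r, _ => exact hd.frame.Q_ne_zero hd.good _

theorem Data.spin_s (hd : Data Q b x y) (i : Fin n) : spin (refl Q (gvec b x y (.inl i) 0)) = 1 := by
  classical
  rw [spin_refl hd.good.nd (hd.Q_gvec_ne_zero _ _)]
  simp [gvec, hd.frame.unit]

theorem Data.spin_t (hd : Data Q b x y) (i : Fin n) :
    spin (refl Q (gvec b x y (.inl i) 1)) = -1 := by
  classical
  rw [spin_refl hd.good.nd (hd.Q_gvec_ne_zero _ _), hd.Q_gvec_one,
    quadraticChar_neg_one_iff_not_isSquare]
  exact hd.nonsq

theorem Data.dick_g (hd : Data Q b x y) (j : Fin n ⊕ R) (a : Fin 2) :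
    dick (refl Q (gvec b x y j a)) = -1 :=
  dick_refl hd.good.nd (hd.Q_gvec_ne_zero j a)

/-- Two commuting reflections of the same spinor class lie in `Ω`. -/
theorem Data.pair_mem_omega (hd : Data Q b x y) {j j' : Fin n ⊕ R} {a a' : Fin 2}
    (h : spin (refl Q (gvec b x y j a)) = spin (refl Q (gvec b x y j' a'))) :
    refl Q (gvec b x y j a) * refl Q (gvec b x y j' a') ∈ Omega F ⇑Q := by
  rw [mem_omega_iff hd.good, dick_mul hd.good, spin_mul hd.good, hd.dick_g, hd.dick_g, h]
  exact ⟨rfl, by rcases spin_eq_or hd.good (refl Q (gvec b x y j' a')) with h | h <;> rw [h] <;> rfl⟩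

theorem Data.exists_perm (hd : Data Q b x y) (w : Perm (Fin n)) :
    ∃ g : IsoGrp Q, g ∈ Omega F ⇑Q ∧ ∀ k, ap g (b k) = b (permIdx w k) := by
  classical
  induction w using Perm.swap_induction_on with
  | one => exact ⟨1, Subgroup.one_mem _, fun k => by
      rw [ap_one]; rcases k with ⟨i, a⟩ | r <;> rfl⟩
  | swap_mul f u v huv ih =>
    obtain ⟨g, hg, hg'⟩ := ih
    let d : Fin 2 → (ι → F) := fun a => b (.inl (u, a)) - b (.inl (v, a))
    have hQd : ∀ a, Q (d a) = 2 := fun a => by
      simp only [d, Q_sub, hd.frame.unit, hd.frame.orth (.inl (u, a)) (.inl (v, a)) (by simp [huv])]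
      ring
    have hmov : ∀ a k, ap (refl Q (d a)) (b k) =
        b (if k = .inl (u, a) then .inl (v, a) else if k = .inl (v, a) then .inl (u, a) else k) := by
      intro a k
      rw [refl_ap, hQd]
      simp only [d, pl_sub_left]
      by_cases h1 : k = .inl (u, a)
      · subst h1
        rw [if_pos rfl, pl_self, hd.frame.unit, hd.frame.orth _ _ (by simp [Ne.symm huv]), sub_zero,
          mul_one, inv_mul_cancel₀ hd.two_ne, one_smul]
        abel
      · rw [if_neg h1]
        by_cases h2 : k = .inl (v, a)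
        · subst h2
          rw [if_pos rfl, pl_self, hd.frame.unit, hd.frame.orth _ _ (by simp [huv]), zero_sub,
            mul_one, mul_neg, inv_mul_cancel₀ hd.two_ne, neg_smul, one_smul]
          abel
        · rw [if_neg h2, hd.frame.orth _ _ (Ne.symm h1), hd.frame.orth _ _ (Ne.symm h2), sub_zero,
            mul_zero, zero_smul, sub_zero]
    refine ⟨refl Q (d 0) * refl Q (d 1) * g, Subgroup.mul_mem _ ?_ hg, fun k => ?_⟩
    · have hne : ∀ a, Q (d a) ≠ 0 := fun a => by rw [hQd]; exact hd.two_ne
      rw [mem_omega_iff hd.good, dick_mul hd.good, spin_mul hd.good, dick_refl hd.good.nd (hne 0),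
        dick_refl hd.good.nd (hne 1), spin_refl hd.good.nd (hne 0), spin_refl hd.good.nd (hne 1),
        hQd, hQd]
      exact ⟨rfl, by rw [← sq, quadraticChar_sq_one hd.two_ne]⟩
    · rw [ap_mul, ap_mul, hg', hmov, hmov]
      congr 1
      rcases k with ⟨i, a⟩ | r
      · simp only [permIdx, Sum.map_inl, Perm.mul_apply, Sum.inl.injEq, Prod.mk.injEq,
          Equiv.swap_apply_def]
        fin_cases a <;> simp <;> split_ifs <;> simp_all
      · simp [permIdx]

/-- The permutation homomorphism. -/
theorem Data.exists_permHom (hd : Data Q b x y) :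
    ∃ π : Perm (Fin n) →* IsoGrp Q, ∀ w, π w ∈ Omega F ⇑Q ∧ ∀ k, ap (π w) (b k) = b (permIdx w k) := by
  choose g hg hg' using hd.exists_perm
  refine ⟨MonoidHom.mk' g fun v w => ext_ap fun z => LinearMap.congr_fun (b.ext fun k => ?_) z,
    fun w => ⟨hg w, hg' w⟩⟩
  rw [ap_mul, hg', hg', hg']
  rcases k with ⟨i, a⟩ | r <;> rfl

theorem Data.perm_gvec (hd : Data Q b x y) {g : IsoGrp Q} {w : Perm (Fin n)}
    (h : ∀ k, ap g (b k) = b (permIdx w k)) (j : Fin n ⊕ R) (a : Fin 2) :
    ap g (gvec b x y j a) = gvec b x y (Sum.map w id j) a := by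
  match j, a with
  | .inl i, 0 => exact h _
  | .inl i, 1 => simp only [gvec, map_add, map_smul, h]; rfl
  | .inr r, _ => exact h _

theorem Data.card_base (hd : Data Q b x y) :
    Nat.card (baseGrp b Q x y) = ∏ j, Nat.card (blockGrp b Q x y j) := by
  classical
  let φ : ∀ j, blockGrp b Q x y j →* IsoGrp Q := fun j => (blockGrp b Q x y j).subtype
  have hcomm : Pairwise fun j j' => ∀ g h, Commute (φ j g) (φ j' h) :=
    fun j j' hj g h => hd.frame.commute_blocks x y hj g.2 h.2
  have hinj : Function.Injective (MonoidHom.noncommPiCoprod φ hcomm) := by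
    refine (injective_iff_map_eq_one _).mpr fun f hf => ?_
    funext j
    refine Subtype.ext (ext_ap fun z => LinearMap.congr_fun (b.ext fun k => ?_) z)
    show ap (f j : IsoGrp Q) (b k) = ap (1 : IsoGrp Q) (b k)
    rcases ne_or_eq (blockOf k) j with hk | hk
    · rw [ap_one]; exact hd.frame.fix_off x y (f j).2 (hd.frame.off_basis hk)
    · have h1 : MonoidHom.noncommPiCoprod φ hcomm f =
          (f j : IsoGrp Q) * MonoidHom.noncommPiCoprod φ hcomm (Function.update f j 1) := by
        conv_lhs => rw [show f = Pi.mulSingle j (f j) * Function.update f j 1 by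
          funext i; rcases eq_or_ne i j with rfl | hi
          · simp
          · simp [hi]]
        rw [map_mul, MonoidHom.noncommPiCoprod_mulSingle]
        simp [φ]
      have h2 : MonoidHom.noncommPiCoprod φ hcomm (Function.update f j 1) ∈
          ⨅ (_ : True), ({ carrier := {g | ap g (b k) = b k}
                           one_mem' := ap_one _
                           mul_mem' := fun {g h} hg hh => by
                             show ap (g * h) (b k) = b k
                             rw [ap_mul, hh, hg]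
                           inv_mem' := fun {g} hg => by
                             show ap g⁻¹ (b k) = b k
                             conv_lhs => rw [← hg]
                             exact ap_inv_ap g _ } : Subgroup (IsoGrp Q)) := by
        simp only [iInf_pos]
        rw [MonoidHom.noncommPiCoprod_apply]
        refine Subgroup.noncommProd_mem _ _ fun i _ => ?_
        show ap (φ i (Function.update f j 1 i)) (b k) = b k
        rcases eq_or_ne i j with rfl | hi
        · simp [φ]
        · rw [Function.update_of_ne hi]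
          exact hd.frame.fix_off x y (f i).2 (hd.frame.off_basis (hk ▸ hi.symm))
      simp only [iInf_pos] at h2
      have h3 : ap (MonoidHom.noncommPiCoprod φ hcomm f) (b k) = ap (1 : IsoGrp Q) (b k) := by rw [hf]
      rw [h1, ap_mul] at h3
      rwa [show ap (MonoidHom.noncommPiCoprod φ hcomm (Function.update f j 1)) (b k) = b k from h2]
        at h3
  have hrange : (MonoidHom.noncommPiCoprod φ hcomm).range = baseGrp b Q x y := by
    rw [MonoidHom.noncommPiCoprod_range]
    exact iSup_congr fun j => (blockGrp b Q x y j).range_subtype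
  rw [← hrange, ← Nat.card_congr (MonoidHom.ofInjective hinj).toEquiv, Nat.card_pi]

end Orthogonal

end Cfsg.Agent.WreathAb
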