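/-
Sylow `2`-subgroups of `Ω(Q)` for `Q` with an orthogonal frame (see `OrthBase`).

* `sqComm_sylow_omega`
-/
import Cfsg.Agent.Lib.WreathAb.OrthBase

set_option autoImplicit false
set_option linter.style.haveILetI false
set_option linter.unusedSectionVars false

namespace Cfsg.Agent.WreathAb

open Cfsg Cfsg.Agent.Orth
open scoped Pointwise
open QuadraticMap (polar)

variable {ι : Type} [Fintype ι] [DecidableEq ι] {F : Type*} [Field F] [Fintype F]
variable {Q : QuadraticForm F (ι → F)}
variable {n : ℕ} {R : Type*} [Fintype R] {b : Module.Basis ((Fin n × Fin 2) ⊕ R) F (ι → F)}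

/-- The product of the two reflections of a block is the rotation. -/
theorem orderOf_rot {g : circ F} {c d : F} (hc : c = g.1.1 0 0) (hdd : d = g.1.1 1 0)
    (hne : 1 + c ≠ 0) (hd : Data Q b (1 + c) (-d)) (i : Fin n) :
    orderOf (refl Q (gvec b (1 + c) (-d) (.inl i) 0) * refl Q (gvec b (1 + c) (-d) (.inl i) 1)) =
      orderOf g := by
  set r := refl Q (gvec b (1 + c) (-d) (.inl i) 0) * refl Q (gvec b (1 + c) (-d) (.inl i) 1) with hr
  set b0 := b (.inl (i, 0)) with hb0
  set b1 := b (.inl (i, 1)) with hb1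
  have hcs : c ^ 2 + d ^ 2 = 1 := by rw [hc, hdd]; exact circ_sq_add_sq g
  have hN : (1 + c) * (1 + c) + -d * -d = 2 * (1 + c) := by linear_combination hcs
  have h01 : polar ⇑Q b0 b1 = 0 := hd.frame.orth _ _ (by simp)
  have e00 : polar ⇑Q b0 b0 = 2 := by rw [pl_self, hb0, hd.frame.unit, mul_one]
  have e11 : polar ⇑Q b1 b1 = 2 := by rw [pl_self, hb1, hd.frame.unit, mul_one]
  have hz := hd.two_ne
  have hu : gvec b (1 + c) (-d) (.inl i) 1 = (1 + c) • b0 + (-d) • b1 := rfl
  have ht0 : ap (refl Q (gvec b (1 + c) (-d) (.inl i) 1)) b0 = (-c) • b0 + d • b1 := by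
    rw [refl_ap, hd.Q_gvec_one, hN, hu, pl_add_left, pl_smul_left, pl_smul_left, e00, pl_comm (Q := Q) b1 b0,
      h01, mul_zero, add_zero, show (2 * (1 + c))⁻¹ * ((1 + c) * 2) = 1 by field_simp]
    module
  have ht1 : ap (refl Q (gvec b (1 + c) (-d) (.inl i) 1)) b1 = d • b0 + c • b1 := by
    rw [refl_ap, hd.Q_gvec_one, hN, hu, pl_add_left, pl_smul_left, pl_smul_left, h01, e11, mul_zero,
      zero_add, smul_add, smul_smul, smul_smul,
      show (2 * (1 + c))⁻¹ * (-d * 2) * (1 + c) = -d by field_simp,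
      show (2 * (1 + c))⁻¹ * (-d * 2) * -d = 1 - c by
        field_simp; linear_combination hcs]
    module
  have hs0 : ap (refl Q (gvec b (1 + c) (-d) (.inl i) 0)) b0 = -b0 :=
    refl_ap_self Q (hd.frame.Q_ne_zero hd.good _)
  have hs1 : ap (refl Q (gvec b (1 + c) (-d) (.inl i) 0)) b1 = b1 := refl_ap_of_orth Q h01
  have hr0 : ap r b0 = c • b0 + d • b1 := by
    rw [hr, ap_mul, ht0, map_add, map_smul, map_smul, hs0, hs1]
    module
  have hr1 : ap r b1 = (-d) • b0 + c • b1 := by
    rw [hr, ap_mul, ht1, map_add, map_smul, map_smul, hs0, hs1]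
    module
  have hpow : ∀ k : ℕ, ap (r ^ k) b0 = ((g ^ k).1.1 0 0) • b0 + ((g ^ k).1.1 1 0) • b1 ∧
      ap (r ^ k) b1 = (-((g ^ k).1.1 1 0)) • b0 + ((g ^ k).1.1 0 0) • b1 := by
    intro k
    induction k with
    | zero => simp
    | succ k ih =>
      rw [pow_succ, pow_succ, ap_mul, hr0, ap_mul, hr1, circ_mul_00, circ_mul_10, ← hc, ← hdd,
        map_add, map_smul, map_smul, map_add, map_smul, map_smul, ih.1, ih.2]
      constructor <;> module
  have hmem : ∀ k : ℕ, r ^ k ∈ blockGrp b Q (1 + c) (-d) (.inl i) := fun k =>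
    (blockGrp b Q (1 + c) (-d) (.inl i)).pow_mem ((blockGrp b Q (1 + c) (-d) (.inl i)).mul_mem
      (Subgroup.subset_closure (Or.inl rfl)) (Subgroup.subset_closure (Or.inr rfl))) k
  have hiff : ∀ k : ℕ, r ^ k = 1 ↔ g ^ k = 1 := by
    intro k
    constructor
    · intro h
      have h0 := (hpow k).1
      rw [h, ap_one] at h0
      have e := congrArg (fun v => b.repr v) h0
      simp only [hb0, hb1, map_add, map_smul, Module.Basis.repr_self, Finsupp.smul_single,
        smul_eq_mul, mul_one] at e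
      refine circ_ext ?_ ?_
      · have := congrArg (fun v => v (Sum.inl (i, (0 : Fin 2)))) e
        simpa [Finsupp.single_apply] using this.symm
      · have := congrArg (fun v => v (Sum.inl (i, (1 : Fin 2)))) e
        simpa [Finsupp.single_apply] using this.symm
    · intro h
      refine ext_ap fun z => LinearMap.congr_fun (b.ext fun k' => ?_) z
      rw [ap_one]
      rcases ne_or_eq (blockOf k') (Sum.inl i) with hk | hk
      · exact hd.frame.fix_off _ _ (hmem k) (hd.frame.off_basis hk)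
      · rcases k' with ⟨j, a⟩ | r'
        · obtain rfl : j = i := Sum.inl_injective hk
          match a with
          | 0 => rw [← hb0, (hpow k).1, h]; simp
          | 1 => rw [← hb1, (hpow k).2, h]; simp
        · exact absurd hk (by simp [blockOf])
  exact orderOf_eq_orderOf_iff.mpr hiff

/-- The Sylow `2`-subgroups of `Ω(Q)` have elementary abelian abelianization. -/
theorem sqComm_sylow_omega (b : Module.Basis ((Fin n × Fin 2) ⊕ R) F (ι → F)) (hn : 2 ≤ n)
    (hf : Frame b Q) (hG : Good Q) (hF : Odd (Nat.card F))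
    (hcard : (Nat.card (IsoGrp Q)).factorization 2 =
      n * padicValNat 2 (Nat.card F ^ 2 - 1) + padicValNat 2 n.factorial + Fintype.card R)
    (P : Sylow 2 (Omega F ⇑Q)) : SqComm (P : Subgroup (Omega F ⇑Q)) := by
  classical
  have hch : ringChar F ≠ 2 := fun h => by
    have := FiniteField.even_card_iff_char_two.1 h
    rw [← Nat.card_eq_fintype_card] at this
    obtain ⟨k, hk⟩ := hF
    omega
  have h2 : (2 : F) ≠ 0 := Ring.two_ne_zero hch
  obtain ⟨g, hord, hne, hns⟩ := exists_rotation (F := F) hF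
  set c := g.1.1 0 0 with hcdef
  set d := g.1.1 1 0 with hddef
  have hd : Data Q b (1 + c) (-d) := ⟨hf, hG, h2, by
    rw [show (1 + c) * (1 + c) + -d * -d = 2 * (1 + c) by
      have := circ_sq_add_sq g
      linear_combination this]
    exact hns⟩
  let v : Fin n ⊕ R → Fin 2 → (ι → F) := gvec b (1 + c) (-d)
  let σ : Fin n → IsoGrp Q := fun i => refl Q (v (.inl i) 0)
  let τ : Fin n → IsoGrp Q := fun i => refl Q (v (.inl i) 1)
  obtain ⟨π, hπ⟩ := hd.exists_permHom
  obtain ⟨T, hTcard, hT, -⟩ := SymSylowGen.exists_sylow 2 n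
  let B := baseGrp b Q (1 + c) (-d)
  -- orders of the blocks
  have hblock : ∀ j, Nat.card (blockGrp b Q (1 + c) (-d) j) =
      Sum.elim (fun _ => 2 ^ padicValNat 2 (Nat.card F ^ 2 - 1)) (fun _ => 2) j := by
    intro j
    have hnot : refl Q (v j 0) ∉ Subgroup.zpowers (refl Q (v j 0) * refl Q (v j 1)) := by
      intro h
      obtain ⟨k, hk⟩ := mem_zpowers_iff_mem_range_orderOf.mp h |> Finset.mem_image.mp
      have h1 := congrArg (dickHom hG) hk.2
      rw [map_pow, map_mul] at h1
      simp [dickHom, v, hd.dick_g] at h1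
    rw [blockGrp, card_closure_pair _ _ (refl_mul_self Q _) (refl_mul_self Q _) hnot]
    rcases j with i | r
    · rw [Sum.elim_inl, orderOf_rot rfl rfl hne hd i, hord, ← pow_succ', val_card_circ hF]
    · rw [Sum.elim_inr]
      show 2 * orderOf (refl Q (b (.inr r)) * refl Q (b (.inr r))) = 2
      rw [refl_mul_self, orderOf_one, mul_one]
  have hgen : ∀ j a, refl Q (v j a) ∈ B := fun j a =>
    Subgroup.mem_iSup_of_mem j (Subgroup.subset_closure (by
      fin_cases a
      · exact Or.inl rfl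
      · exact Or.inr rfl))
  have hBcl : B ≤ Subgroup.closure {x | ∃ j a, x = refl Q (v j a)} := by
    refine iSup_le fun j => (Subgroup.closure_le _).mpr ?_
    rintro x (rfl | rfl)
    · exact Subgroup.subset_closure ⟨j, 0, rfl⟩
    · exact Subgroup.subset_closure ⟨j, 1, rfl⟩
  have hnorm : T.map π ≤ Subgroup.normalizer (B : Set (IsoGrp Q)) := by
    rintro _ ⟨w, -, rfl⟩
    have h : ∀ w : Equiv.Perm (Fin n), ∀ x ∈ B, π w * x * (π w)⁻¹ ∈ B := by
      intro w x hx
      have hx' := hBcl hx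
      clear hx
      induction hx' using Subgroup.closure_induction with
      | mem x hx' =>
        obtain ⟨j, a, rfl⟩ := hx'
        rw [conj_refl, hd.perm_gvec (hπ w).2]
        exact hgen _ a
      | one => rw [mul_one, mul_inv_cancel]; exact B.one_mem
      | mul u z _ _ hu hz =>
        rw [show π w * (u * z) * (π w)⁻¹ = π w * u * (π w)⁻¹ * (π w * z * (π w)⁻¹) by group]
        exact B.mul_mem hu hz
      | inv u _ hu =>
        rw [show π w * u⁻¹ * (π w)⁻¹ = (π w * u * (π w)⁻¹)⁻¹ by group]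
        exact B.inv_mem hu
    rw [Subgroup.mem_normalizer_iff]
    refine fun x => ⟨h w x, fun hx => ?_⟩
    have := h w⁻¹ _ hx
    rw [map_inv] at this
    simpa [mul_assoc] using this
  have hdisj : ∀ w : Equiv.Perm (Fin n), π w ∈ B → w = 1 := by
    intro w hw
    ext i : 1
    by_contra hne'
    -- elements of the base keep `Off` sets
    have hkeep : ∀ x ∈ B, ∀ j z, Off b Q j z → Off b Q j (ap x z) := by
      intro x hx
      have hx' := hBcl hx
      clear hx
      induction hx' using Subgroup.closure_induction with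
      | mem x hx' =>
        obtain ⟨j', a, rfl⟩ := hx'
        intro j z hz
        by_cases hj : j = j'
        · subst hj
          rw [refl_ap_of_orth Q (hd.frame.gvec_orth _ _ j a hz)]
          exact hz
        · intro k hk
          rw [refl_ap, pl_sub_right, pl_smul_right, hz k hk,
            hd.frame.off_gvec _ _ hj a k hk, mul_zero, sub_zero]
      | one => intro j z hz; rwa [ap_one]
      | mul u z _ _ hu hz =>
        intro j y hy
        rw [ap_mul]
        exact hu j _ (hz j y hy)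
      | inv u _ hu =>
        intro j y hy k hk
        -- finite order
        have hpow : ∀ m : ℕ, Off b Q j (ap (u ^ m) y) := by
          intro m
          induction m with
          | zero => rwa [pow_zero, ap_one]
          | succ m ihm =>
            rw [pow_succ', ap_mul]
            exact hu j _ ihm
        have := hpow (orderOf u - 1) k hk
        rwa [← inv_eq_of_mul_eq_one_right (show u * u ^ (orderOf u - 1) = 1 by
          rw [← pow_succ', Nat.sub_add_cancel (orderOf_pos u), pow_orderOf_eq_one])] at this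
    have h := hkeep _ hw (.inl (w i)) (b (.inl (i, 0)))
      (hd.frame.off_basis (by simp [blockOf]; exact fun h => hne' h.symm)) (.inl (w i, 0)) rfl
    rw [(hπ w).2] at h
    simp only [permIdx, Sum.map_inl, pl_self, hd.frame.unit, mul_one] at h
    exact h2 h
  -- the Sylow subgroup of the isometry group
  let W0 := B ⊔ T.map π
  have hW0set : (W0 : Set (IsoGrp Q)) = (B : Set (IsoGrp Q)) * (T.map π : Set (IsoGrp Q)) :=
    Subgroup.coe_mul_of_right_le_normalizer_left B (T.map π) hnorm
  have hW0mem : ∀ x ∈ W0, ∃ u ∈ B, ∃ w ∈ T, x = u * π w := by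
    intro x hx
    have : x ∈ (W0 : Set (IsoGrp Q)) := hx
    rw [hW0set] at this
    obtain ⟨u, hu, _, ⟨w, hw, rfl⟩, rfl⟩ := Set.mem_mul.mp this
    exact ⟨u, hu, w, hw, rfl⟩
  have hW0card : Nat.card W0 = 2 ^ (Nat.card (IsoGrp Q)).factorization 2 := by
    have hbij : Function.Bijective (fun p : B × T =>
        (⟨p.1 * π p.2, W0.mul_mem (Subgroup.mem_sup_left p.1.2)
          (Subgroup.mem_sup_right (Subgroup.mem_map_of_mem π p.2.2))⟩ : W0)) := by
      constructor
      · rintro ⟨⟨u, hu⟩, ⟨w, hw⟩⟩ ⟨⟨u', hu'⟩, ⟨w', hw'⟩⟩ h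
        have h1 : u * π w = u' * π w' := congrArg Subtype.val h
        have h2' : π (w * w'⁻¹) = u⁻¹ * u' := by
          rw [map_mul, map_inv, eq_inv_mul_iff_mul_eq, ← mul_assoc, h1, mul_inv_cancel_right]
        have := hdisj _ (h2' ▸ B.mul_mem (B.inv_mem hu) hu')
        obtain rfl : w = w' := mul_inv_eq_one.mp this
        obtain rfl : u = u' := mul_right_cancel h1
        rfl
      · rintro ⟨x, hx⟩
        obtain ⟨u, hu, w, hw, rfl⟩ := hW0mem x hx
        exact ⟨(⟨u, hu⟩, ⟨w, hw⟩), rfl⟩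
    rw [← Nat.card_congr (Equiv.ofBijective _ hbij), Nat.card_prod, hd.card_base,
      Finset.prod_congr rfl fun j _ => hblock j, Fintype.prod_sum_type, hTcard, hcard]
    simp only [Sum.elim_inl, Sum.elim_inr, Finset.prod_const, Finset.card_univ, Fintype.card_fin,
      pow_add, ← pow_mul]
    ring
  let W := W0 ⊓ Omega F ⇑Q
  set K := Subgroup.closure {y | y ∈ W ∧ y ^ 2 ∈ ⁅W, W⁆} with hKdef
  have hKconj : ∀ u ∈ W0, ∀ k ∈ K, u * k * u⁻¹ ∈ K := by
    intro u hu
    have hWc : W.map (MulAut.conj u).toMonoidHom ≤ W := by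
      rintro _ ⟨k, ⟨hk, hk'⟩, rfl⟩
      exact ⟨W0.mul_mem (W0.mul_mem hu hk) (W0.inv_mem hu),
        (inferInstance : (Omega F ⇑Q).Normal).conj_mem k hk' u⟩
    intro k hk
    have := Subgroup.mem_map_of_mem (MulAut.conj u).toMonoidHom hk
    rw [hKdef, MonoidHom.map_closure] at this
    refine Subgroup.closure_mono ?_ this
    rintro _ ⟨y, ⟨hy, hy'⟩, rfl⟩
    refine ⟨hWc (Subgroup.mem_map_of_mem _ hy), ?_⟩
    rw [← map_pow]
    have := Subgroup.mem_map_of_mem (MulAut.conj u).toMonoidHom hy'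
    rw [Subgroup.map_commutator] at this
    exact Subgroup.commutator_mono hWc hWc this
  have hinvol : ∀ u, u ∈ B → u ∈ Omega F ⇑Q → u * u = 1 → u ∈ K := fun u hu hu' hsq =>
    Subgroup.subset_closure ⟨⟨Subgroup.mem_sup_left hu, hu'⟩, by rw [pow_two, hsq]; exact Subgroup.one_mem _⟩
  have hpair : ∀ j j' a a', j ≠ j' → spin (refl Q (v j a)) = spin (refl Q (v j' a')) →
      refl Q (v j a) * refl Q (v j' a') ∈ K := by
    intro j j' a a' hj hs
    refine hinvol _ (B.mul_mem (hgen j a) (hgen j' a')) (hd.pair_mem_omega hs) ?_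
    have hc' : Commute (refl Q (v j a)) (refl Q (v j' a')) :=
      hd.frame.commute_blocks _ _ hj
        (Subgroup.subset_closure (by fin_cases a <;> [exact Or.inl rfl; exact Or.inr rfl]))
        (Subgroup.subset_closure (by fin_cases a' <;> [exact Or.inl rfl; exact Or.inr rfl]))
    rw [mul_assoc, ← mul_assoc (refl Q (v j' a')), ← hc'.eq, mul_assoc, refl_mul_self, mul_one,
      refl_mul_self]
  have hcommST : ∀ {i j : Fin n}, i ≠ j → ∀ a a', Commute (refl Q (v (.inl i) a)) (refl Q (v (.inl j) a')) :=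
    fun {i j} hij a a' => hd.frame.commute_blocks _ _ (fun h => hij (Sum.inl_injective h))
      (Subgroup.subset_closure (by fin_cases a <;> [exact Or.inl rfl; exact Or.inr rfl]))
      (Subgroup.subset_closure (by fin_cases a' <;> [exact Or.inl rfl; exact Or.inr rfl]))
  let i₀ : Fin n := ⟨0, by omega⟩
  have hrot : σ i₀ * τ i₀ * (σ i₀ * τ i₀) ∈ K := by
    let i₁ : Fin n := ⟨1, by omega⟩
    have h01 : i₀ ≠ i₁ := by simp [i₀, i₁, Fin.ext_iff]
    have hss : ∀ i j, i ≠ j → σ i * σ j ∈ K := fun i j h =>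
      hpair _ _ 0 0 (fun e => h (Sum.inl_injective e)) (by rw [hd.spin_s, hd.spin_s])
    have htt : ∀ i j, i ≠ j → τ i * τ j ∈ K := fun i j h =>
      hpair _ _ 1 1 (fun e => h (Sum.inl_injective e)) (by rw [hd.spin_t, hd.spin_t])
    rcases Nat.lt_or_ge n 3 with h3 | h3
    · -- two blocks: use the swap
      obtain rfl : n = 2 := by omega
      have hTtop : T = ⊤ := Subgroup.eq_top_of_card_eq T (by
        rw [hTcard, Nat.card_perm, Nat.card_eq_fintype_card, Fintype.card_fin]
        decide +kernel)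
      let w : Equiv.Perm (Fin 2) := Equiv.swap i₀ i₁
      let x := σ i₀ * τ i₀ * (σ i₁ * τ i₁)⁻¹
      have hxB : x ∈ B := B.mul_mem (B.mul_mem (hgen _ _) (hgen _ _))
        (B.inv_mem (B.mul_mem (hgen _ _) (hgen _ _)))
      have hxO : x ∈ Omega F ⇑Q := by
        rw [mem_omega_iff hG, dick_mul hG, dick_mul hG, spin_mul hG, spin_mul hG, mul_inv_rev,
          refl_inv, refl_inv, dick_mul hG, spin_mul hG]
        simp only [σ, τ, v, hd.dick_g, hd.spin_s, hd.spin_t]
        exact ⟨rfl, rfl⟩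
      have hswap : π w * x * (π w)⁻¹ = x⁻¹ := by
        have hs : ∀ i a, π w * refl Q (v (.inl i) a) * (π w)⁻¹ = refl Q (v (.inl (w i)) a) := fun i a => by
          rw [conj_refl, hd.perm_gvec (hπ w).2]; rfl
        have hw0 : w i₀ = i₁ := Equiv.swap_apply_left _ _
        have hw1 : w i₁ = i₀ := Equiv.swap_apply_right _ _
        have e0 := hs i₀ 0; have e1 := hs i₀ 1; have e2 := hs i₁ 0; have e3 := hs i₁ 1
        rw [hw0] at e0 e1; rw [hw1] at e2 e3
        show π w * (σ i₀ * τ i₀ * (σ i₁ * τ i₁)⁻¹) * (π w)⁻¹ = _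
        rw [show π w * (σ i₀ * τ i₀ * (σ i₁ * τ i₁)⁻¹) * (π w)⁻¹ =
          (π w * σ i₀ * (π w)⁻¹) * (π w * τ i₀ * (π w)⁻¹) *
            ((π w * σ i₁ * (π w)⁻¹) * (π w * τ i₁ * (π w)⁻¹))⁻¹ by group]
        simp only [x, σ, τ]
        rw [e0, e1, e2, e3]
        group
      have hwW : π w ∈ W := ⟨Subgroup.mem_sup_right (Subgroup.mem_map_of_mem π (hTtop ▸ Subgroup.mem_top w)),
        (hπ w).1⟩
      have hwK : π w ∈ K := Subgroup.subset_closure ⟨hwW, by
        rw [← map_pow, pow_two, Equiv.swap_mul_self, map_one]; exact Subgroup.one_mem _⟩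
      have hwx : π w * x ∈ K := Subgroup.subset_closure
        ⟨W.mul_mem hwW ⟨Subgroup.mem_sup_left hxB, hxO⟩, by
          have hw2 : π w * π w = 1 := by rw [← map_mul, Equiv.swap_mul_self, map_one]
          rw [pow_two, show π w * x * (π w * x) = (π w * x * (π w)⁻¹) * (π w * π w) * x by group,
            hswap, hw2, mul_one, inv_mul_cancel]
          exact Subgroup.one_mem _⟩
      have hxK : x ∈ K := by
        have := K.mul_mem (K.inv_mem hwK) hwx
        rwa [inv_mul_cancel_left] at this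
      have hprod := K.mul_mem hxK (K.mul_mem (hss i₁ i₀ h01.symm) (htt i₁ i₀ h01.symm))
      have e : σ i₀ * τ i₀ * (σ i₁ * τ i₁)⁻¹ * (σ i₁ * σ i₀ * (τ i₁ * τ i₀)) =
          σ i₀ * τ i₀ * (σ i₀ * τ i₀) := by
        rw [show σ i₁ * σ i₀ * (τ i₁ * τ i₀) = σ i₁ * (σ i₀ * τ i₁) * τ i₀ by group,
          show σ i₀ * τ i₁ = τ i₁ * σ i₀ from (hcommST h01 0 1).eq, show σ i₁ * (τ i₁ * σ i₀) * τ i₀ = σ i₁ * τ i₁ * (σ i₀ * τ i₀) by group]
        group
      rwa [e] at hprod
    · let i₂ : Fin n := ⟨2, by omega⟩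
      have h02 : i₀ ≠ i₂ := by simp [i₀, i₂, Fin.ext_iff]
      have h12 : i₁ ≠ i₂ := by simp [i₁, i₂, Fin.ext_iff]
      have hy := K.mul_mem (hss i₀ i₁ h01) (htt i₀ i₂ h02)
      have hy' : σ i₀ * σ i₁ * (τ i₀ * τ i₂) = σ i₀ * τ i₀ * (σ i₁ * τ i₂) := by
        rw [show σ i₀ * σ i₁ * (τ i₀ * τ i₂) = σ i₀ * (σ i₁ * τ i₀) * τ i₂ by group,
          show σ i₁ * τ i₀ = τ i₀ * σ i₁ from (hcommST h01.symm 0 1).eq]
        group
      rw [hy'] at hy
      have hA : Commute (σ i₁ * τ i₂) (σ i₀ * τ i₀) :=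
        ((hcommST h01.symm 0 0).mul_right (hcommST h01.symm 0 1)).mul_left
          ((hcommST h02.symm 1 0).mul_right (hcommST h02.symm 1 1))
      have hB : σ i₁ * τ i₂ * (σ i₁ * τ i₂) = 1 := by
        rw [mul_assoc, ← mul_assoc (τ i₂), ← (hcommST h12 0 1).eq, mul_assoc, refl_mul_self, mul_one,
          refl_mul_self]
      have := K.mul_mem hy hy
      rwa [show σ i₀ * τ i₀ * (σ i₁ * τ i₂) * (σ i₀ * τ i₀ * (σ i₁ * τ i₂)) =
        σ i₀ * τ i₀ * ((σ i₁ * τ i₂) * (σ i₀ * τ i₀)) * (σ i₁ * τ i₂) by group, hA.eq,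
        show σ i₀ * τ i₀ * (σ i₀ * τ i₀ * (σ i₁ * τ i₂)) * (σ i₁ * τ i₂) =
          σ i₀ * τ i₀ * (σ i₀ * τ i₀) * (σ i₁ * τ i₂ * (σ i₁ * τ i₂)) by group, hB, mul_one] at this
  -- reduction of the base modulo `K`
  set s := σ i₀
  set t := τ i₀
  have hs : s * s = 1 := refl_mul_self Q _
  have ht : t * t = 1 := refl_mul_self Q _
  have hB0 : s ∈ W0 ∧ t ∈ W0 := ⟨Subgroup.mem_sup_left (hgen _ _), Subgroup.mem_sup_left (hgen _ _)⟩
  have hred : ∀ u ∈ B, u ∈ K ∨ s * u ∈ K ∨ t * u ∈ K ∨ t * (s * u) ∈ K := by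
    intro u hu
    have hgen' : ∀ j a, refl Q (v j a) * s ∈ K ∨ refl Q (v j a) * t ∈ K := by
      intro j a
      by_cases hj : j = Sum.inl i₀
      · subst hj
        fin_cases a
        · exact Or.inl (by show s * s ∈ K; rw [hs]; exact K.one_mem)
        · exact Or.inr (by show t * t ∈ K; rw [ht]; exact K.one_mem)
      · rcases spin_eq_or hG (refl Q (v j a)) with h | h
        · exact Or.inl (hpair j _ a 0 hj (by rw [h, hd.spin_s]))
        · exact Or.inr (hpair j _ a 1 hj (by rw [h, hd.spin_t]))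
    have hst : s * t * (s * t) ∈ K := hrot
    have step : ∀ j a z, (z ∈ K ∨ s * z ∈ K ∨ t * z ∈ K ∨ t * (s * z) ∈ K) →
        (refl Q (v j a) * z ∈ K ∨ s * (refl Q (v j a) * z) ∈ K ∨ t * (refl Q (v j a) * z) ∈ K ∨
          t * (s * (refl Q (v j a) * z)) ∈ K) := by
      intro j a z hz
      have hinvg : ∀ h : IsoGrp Q, h * h = 1 → refl Q (v j a) * h ∈ K → h * refl Q (v j a) ∈ K := by
        intro h hh hk
        have := K.inv_mem hk
        rwa [mul_inv_rev, refl_inv, inv_eq_of_mul_eq_one_right hh] at this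
      have conjK : ∀ h, h ∈ W0 → h * h = 1 → ∀ k ∈ K, h * k * h ∈ K := by
        intro h h0 hh k hk
        have := hKconj h h0 k hk
        rwa [inv_eq_of_mul_eq_one_right hh] at this
      rcases hgen' j a with hg | hg
      · have hk := hinvg s hs hg
        rcases hz with hz | hz | hz | hz
        · exact Or.inr (Or.inl (by rw [← mul_assoc]; exact K.mul_mem hk hz))
        · exact Or.inl (by
            rw [show refl Q (v j a) * z = refl Q (v j a) * s * (s⁻¹ * z) by group,
              inv_eq_of_mul_eq_one_right hs]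
            exact K.mul_mem hg hz)
        · refine Or.inr (Or.inr (Or.inr ?_))
          rw [show t * (s * (refl Q (v j a) * z)) = (t * (s * refl Q (v j a)) * t⁻¹) * (t * z) by group]
          exact K.mul_mem (hKconj t hB0.2 _ hk) hz
        · refine Or.inr (Or.inr (Or.inl ?_))
          rw [show t * (refl Q (v j a) * z) =
            t * (refl Q (v j a) * s) * t⁻¹ * (t * (s⁻¹ * z)) by group, inv_eq_of_mul_eq_one_right hs]
          exact K.mul_mem (hKconj t hB0.2 _ hg) hz
      · have hk := hinvg t ht hg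
        rcases hz with hz | hz | hz | hz
        · exact Or.inr (Or.inr (Or.inl (by rw [← mul_assoc]; exact K.mul_mem hk hz)))
        · refine Or.inr (Or.inr (Or.inr ?_))
          rw [show t * (s * (refl Q (v j a) * z)) =
            (t⁻¹ * s⁻¹ * t⁻¹ * s⁻¹)⁻¹⁻¹ * (s * (t * refl Q (v j a)) * s⁻¹) * (s * z) by
              simp only [inv_eq_of_mul_eq_one_right hs, inv_eq_of_mul_eq_one_right ht, inv_inv,
                mul_assoc]
              simp only [← mul_assoc t t, ht, one_mul, ← mul_assoc s s, hs]]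
          refine K.mul_mem (K.mul_mem ?_ (hKconj s hB0.1 _ hk)) hz
          rw [inv_inv, show t⁻¹ * s⁻¹ * t⁻¹ * s⁻¹ = (s * t * (s * t))⁻¹ by group]
          exact K.inv_mem hst
        · exact Or.inl (by
            rw [show refl Q (v j a) * z = refl Q (v j a) * t * (t⁻¹ * z) by group,
              inv_eq_of_mul_eq_one_right ht]
            exact K.mul_mem hg hz)
        · refine Or.inr (Or.inl ?_)
          rw [show s * (refl Q (v j a) * z) = s * (refl Q (v j a) * t) * s⁻¹ *
            (s * t⁻¹ * (s⁻¹ * t⁻¹)) * (t * (s * z)) by group]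
          refine K.mul_mem (K.mul_mem (hKconj s hB0.1 _ hg) ?_) hz
          rwa [inv_eq_of_mul_eq_one_right hs, inv_eq_of_mul_eq_one_right ht]
    induction hBcl hu using Subgroup.closure_induction_left with
    | one => exact Or.inl K.one_mem
    | mul_left g hg z hz ih =>
      obtain ⟨j, a, rfl⟩ := hg
      exact step j a z (ih ((Subgroup.closure_le _).mpr (by rintro _ ⟨j, a, rfl⟩; exact hgen j a) hz))
    | inv_mul_cancel g hg z hz ih =>
      obtain ⟨j, a, rfl⟩ := hg
      rw [refl_inv]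
      exact step j a z (ih ((Subgroup.closure_le _).mpr (by rintro _ ⟨j, a, rfl⟩; exact hgen j a) hz))
  have hKO : ∀ k ∈ K, k ∈ Omega F ⇑Q := fun k hk =>
    ((Subgroup.closure_le _).mpr fun y hy => hy.1.2) hk
  have hWsq : SqComm W := by
    refine sqComm_of_closure fun x hx => ?_
    obtain ⟨u, hu, w, hw, rfl⟩ := hW0mem x hx.1
    refine K.mul_mem ?_ ?_
    · have huO : u ∈ Omega F ⇑Q := by
        have := Subgroup.mul_mem _ hx.2 (Subgroup.inv_mem _ (hπ w).1)
        rwa [mul_inv_cancel_right] at this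
      rcases hred u hu with h | h | h | h
      · exact h
      · have := Subgroup.mul_mem _ (hKO _ h) (Subgroup.inv_mem _ huO)
        rw [mul_inv_cancel_right, mem_omega_iff hG] at this
        simp [s, σ, v, hd.dick_g] at this
      · have := Subgroup.mul_mem _ (hKO _ h) (Subgroup.inv_mem _ huO)
        rw [mul_inv_cancel_right, mem_omega_iff hG] at this
        simp [t, τ, v, hd.dick_g] at this
      · have := Subgroup.mul_mem _ (hKO _ h) (Subgroup.inv_mem _ huO)
        rw [← mul_assoc t, mul_inv_cancel_right, mem_omega_iff hG, dick_mul hG, spin_mul hG] at this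
        simp [s, σ, t, τ, v, hd.spin_s, hd.spin_t] at this
    · have h1 := Subgroup.mem_map_of_mem π (hT hw)
      rw [MonoidHom.map_closure] at h1
      refine Subgroup.closure_mono ?_ h1
      rintro _ ⟨z, ⟨hz, hz'⟩, rfl⟩
      exact ⟨⟨Subgroup.mem_sup_right (Subgroup.mem_map_of_mem π hz), (hπ z).1⟩,
        by rw [← map_pow, hz', map_one]; exact Subgroup.one_mem _⟩
  -- transfer to `Ω`
  have hle : W ≤ Omega F ⇑Q := inf_le_right
  refine sqComm_of_card (W.subgroupOf (Omega F ⇑Q)) ?_
    (SqComm.of_map (Omega F ⇑Q).subtype_injective (by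
      rw [Subgroup.map_subgroupOf_eq_of_le hle]; exact hWsq)) P
  rw [Nat.card_congr (Subgroup.subgroupOfEquivOfLe hle).toEquiv]
  have hidx : (Omega F ⇑Q).index = 4 := omega_index_odd hG (by
    rw [← Fintype.card_congr (b.indexEquiv (Pi.basisFun F ι))]
    simp only [Fintype.card_sum, Fintype.card_prod, Fintype.card_fin]
    omega) h2
  have hmulΩ := (Omega F ⇑Q).index_mul_card
  rw [hidx] at hmulΩ
  obtain ⟨k, hk⟩ : ∃ k, Nat.card W = 2 ^ k := by
    obtain ⟨k, -, hk⟩ := (Nat.dvd_prime_pow Nat.prime_two).mp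
      (hW0card ▸ Subgroup.card_dvd_of_le (inf_le_left : W ≤ W0))
    exact ⟨k, hk⟩
  have hrel : W0.relIndex ⊤ = W0.index := Subgroup.relIndex_top_right _
  have hdvd : Nat.card W0 ∣ Nat.card W * 4 := by
    rw [← hidx]
    have h1 : W.relIndex W0 ∣ (Omega F ⇑Q).index := by
      rw [show W.relIndex W0 = (Omega F ⇑Q).relIndex W0 from Subgroup.inf_relIndex_left _ _]
      exact Subgroup.relIndex_dvd_index_of_normal _ _
    have h2' : W.relIndex W0 * Nat.card W = Nat.card W0 := by
      rw [Subgroup.relIndex, ← Nat.card_congr (Subgroup.subgroupOfEquivOfLe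
        (inf_le_left : W ≤ W0)).toEquiv]
      exact Subgroup.index_mul_card _
    rw [← h2', mul_comm]
    exact Nat.mul_dvd_mul_left _ h1
  have hfac : (Nat.card (IsoGrp Q)).factorization 2 =
      2 + (Nat.card (Omega F ⇑Q)).factorization 2 := by
    rw [← hmulΩ, Nat.factorization_mul (by norm_num) Nat.card_pos.ne', Finsupp.add_apply,
      show (4 : ℕ) = 2 ^ 2 by norm_num, Nat.Prime.factorization_pow Nat.prime_two, Finsupp.single_eq_same]
  rw [hW0card, hk, hfac, show (4 : ℕ) = 2 ^ 2 by norm_num, ← pow_add,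
    Nat.pow_dvd_pow_iff_le_right one_lt_two] at hdvd
  have hWdvd : 2 ^ k ∣ Nat.card (Omega F ⇑Q) := hk ▸ Subgroup.card_dvd_of_le hle
  have := (Nat.Prime.pow_dvd_iff_le_factorization Nat.prime_two Nat.card_pos.ne').mp hWdvd
  rw [hk]
  congr 1
  refine le_antisymm this ?_
  exact Nat.le_of_add_le_add_left (a := 2) (hdvd.trans (Nat.add_comm k 2).le)

end Cfsg.Agent.WreathAb
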