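/-
Frames of the standard orthogonal forms in odd characteristic, and the resulting statements on Sylow
`2`-subgroups of `Ω`.

* `sqComm_omega_odd`, `sqComm_omega_plus`, `sqComm_omega_minus`
-/
import Cfsg.Agent.Lib.WreathAb.OrthSylow
import Cfsg.Agent.Lib.WreathAb.GL
import Cfsg.Agent.Lib.OrthRank.Basic
import Cfsg.Agent.Lib.Orth.Models
import Cfsg.Agent.S0286
import Cfsg.Agent.S0287
import Cfsg.Agent.S0288

set_option autoImplicit false
set_option linter.style.haveILetI false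
set_option linter.unusedSectionVars false

namespace Cfsg.Agent.WreathAb

open Cfsg Cfsg.Agent.Orth
open QuadraticMap (polar)

variable {ι : Type} [Fintype ι] [DecidableEq ι] {F : Type*} [Field F] [Fintype F]
variable {Q : QuadraticForm F (ι → F)}

theorem two_ne_zero_of_odd (hF : Odd (Nat.card F)) : (2 : F) ≠ 0 := by
  refine Ring.two_ne_zero fun h => ?_
  have := FiniteField.even_card_iff_char_two.1 h
  rw [← Nat.card_eq_fintype_card] at this
  obtain ⟨k, hk⟩ := hF
  omega

/-- Frames from an orthogonal basis with all but one value equal to one. -/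
theorem sqComm_of_orthBasis {n : ℕ} (hn : 2 ≤ n) (hF : Odd (Nat.card F)) (hG : Good Q)
    (c : Module.Basis ι F (ι → F)) (hc : OrthRank.OrthBasis Q c) {R : Type} [Fintype R]
    (hsize : Fintype.card ι = 2 * n + Fintype.card R) (i₀ : ι)
    (h1 : ∀ i, i ≠ i₀ → Q (c i) = 1) (h0 : Q (c i₀) = 1 ∨ 0 < Fintype.card R)
    (hcard : (Nat.card (IsoGrp Q)).factorization 2 =
      n * padicValNat 2 (Nat.card F ^ 2 - 1) + padicValNat 2 n.factorial + Fintype.card R)
    (P : Sylow 2 (Omega F ⇑Q)) : SqComm (P : Subgroup (Omega F ⇑Q)) := by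
  classical
  obtain ⟨e⟩ : Nonempty (ι ≃ (Fin n × Fin 2) ⊕ R) := ⟨Fintype.equivOfCardEq (by
    simp only [Fintype.card_sum, Fintype.card_prod, Fintype.card_fin]; omega)⟩
  obtain ⟨e', he'⟩ : ∃ e' : ι ≃ (Fin n × Fin 2) ⊕ R, ∀ p, Q (c (e'.symm (.inl p))) = 1 := by
    rcases h0 with h0 | h0
    · refine ⟨e, fun p => ?_⟩
      rcases eq_or_ne (e.symm (.inl p)) i₀ with h | h
      · rw [h, h0]
      · exact h1 _ h
    · obtain ⟨r⟩ := Fintype.card_pos_iff.mp h0
      refine ⟨e.trans (Equiv.swap (e i₀) (.inr r)), fun p => h1 _ fun h => ?_⟩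
      have := congrArg (e.trans (Equiv.swap (e i₀) (Sum.inr r))) h
      rw [Equiv.apply_symm_apply, Equiv.trans_apply, Equiv.swap_apply_left] at this
      exact absurd this (by simp)
  exact sqComm_sylow_omega (c.reindex e') hn
    ⟨fun k l hkl => by
      rw [Module.Basis.reindex_apply, Module.Basis.reindex_apply]
      exact hc _ _ fun h => hkl (e'.symm.injective h),
    fun p => by rw [Module.Basis.reindex_apply]; exact he' p⟩ hG hF hcard P

theorem factorization_card (hF : Odd (Nat.card F)) {e t : ℕ} (ht : t ≠ 0) :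
    (2 * Nat.card F ^ e * t).factorization 2 = 1 + padicValNat 2 t := by
  have hq : Nat.card F ≠ 0 := Nat.card_pos.ne'
  rw [Nat.factorization_def _ Nat.prime_two, padicValNat.mul (mul_ne_zero two_ne_zero
    (pow_ne_zero _ hq)) ht, padicValNat.mul two_ne_zero (pow_ne_zero _ hq), padicValNat_self,
    padicValNat.eq_zero_of_not_dvd (n := Nat.card F ^ e) fun h => ?_, add_zero]
  have := Nat.prime_two.dvd_of_dvd_pow h
  obtain ⟨k, hk⟩ := hF
  omega

/-- Odd dimension. -/
theorem sqComm_omega_odd (hF : Odd (Nat.card F)) (m : ℕ) (hm : 2 ≤ m)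
    (P : Sylow 2 (Omega F (quadFormOdd m F))) : SqComm (P : Subgroup (Omega F (quadFormOdd m F))) := by
  have h2 := two_ne_zero_of_odd hF
  have hQ := quadOdd_nondeg (F := F) m h2
  obtain ⟨c, hc, h1, -⟩ := OrthRank.exists_orth_frame hQ h2 one_ne_zero (Sum.inl ())
  refine sqComm_of_orthBasis (n := m) (R := Unit) hm hF (Good.of_two_ne_zero hQ h2) c hc
    (by simp; omega) _ h1 (Or.inr (by simp)) ?_ P
  have hq1 : 1 < Nat.card F := Finite.one_lt_card
  have hne : (∏ i ∈ Finset.range m, (Nat.card F ^ (2 * (i + 1)) - 1)) ≠ 0 :=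
    Finset.prod_ne_zero_iff.mpr fun i _ => by
      have := Nat.one_lt_pow (show 2 * (i + 1) ≠ 0 by omega) hq1
      omega
  have hcard : Nat.card (IsoGrp (quadOdd m F)) = _ :=
    Cfsg.Agent.S0286.result (q := Nat.card F) Nat.card_eq_fintype_card.symm hF m
  rw [hcard, factorization_card hF hne, val_prod_sp hF hq1, Fintype.card_unit]
  ring

/-- The class of the last value of an orthogonal frame is the discriminant. -/
theorem isSquare_last (hQ : Q.polarBilin.Nondegenerate) (h2 : (2 : F) ≠ 0) {m : ℕ}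
    (hι : Fintype.card ι = 2 * m) {c : Module.Basis ι F (ι → F)} (hc : OrthRank.OrthBasis Q c) {i₀ : ι}
    (h1 : ∀ i, i ≠ i₀ → Q (c i) = 1) :
    IsSquare (Q (c i₀) * (Orth.gram ⇑Q).det) := by
  classical
  obtain ⟨w, hw⟩ := OrthRank.isSquare_gram_det_mul (Q := Q) c (Pi.basisFun F ι)
  rw [OrthRank.gram_det_orth hc, Finset.prod_mul_distrib, Finset.prod_const, Finset.card_univ, hι,
    Finset.prod_eq_single i₀ (fun i _ hi => h1 i hi) (fun h => absurd (Finset.mem_univ _) h)] at hw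
  have hg : OrthRank.gram Q (Pi.basisFun F ι) = Orth.gram ⇑Q := by
    ext i j
    simp [OrthRank.gram, Orth.gram]
  rw [hg] at hw
  refine ⟨w / 2 ^ m, ?_⟩
  rw [div_mul_div_comm, eq_div_iff (mul_ne_zero (pow_ne_zero _ h2) (pow_ne_zero _ h2)), ← hw,
    two_mul m, pow_add]
  ring

/-- Rescale the last vector. -/
theorem exists_unit_last {c : Module.Basis ι F (ι → F)} (hc : OrthRank.OrthBasis Q c) {i₀ : ι}
    (h1 : ∀ i, i ≠ i₀ → Q (c i) = 1) (h0 : Q (c i₀) ≠ 0) (hsq : IsSquare (Q (c i₀))) :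
    ∃ c' : Module.Basis ι F (ι → F), OrthRank.OrthBasis Q c' ∧ ∀ i, Q (c' i) = 1 := by
  obtain ⟨w, hw⟩ := hsq
  have hw0 : w ≠ 0 := fun h => h0 (by rw [hw, h, zero_mul])
  let u : ι → Fˣ := fun i => if i = i₀ then (Units.mk0 w hw0)⁻¹ else 1
  refine ⟨c.unitsSMul u, fun i j hij => ?_, fun i => ?_⟩
  · rw [Module.Basis.unitsSMul_apply, Module.Basis.unitsSMul_apply, Units.smul_def, Units.smul_def,
      pl_smul_left, pl_smul_right, hc i j hij, mul_zero, mul_zero]
  · rw [Module.Basis.unitsSMul_apply, Units.smul_def, Q_smul]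
    rcases eq_or_ne i i₀ with rfl | h
    · simp only [u, if_pos rfl, Units.val_inv_eq_inv_val, Units.val_mk0, hw]
      field_simp
    · simp [u, h, h1 i h]

theorem isSquare_neg_one_pow_iff (hF : Odd (Nat.card F)) (m : ℕ) :
    IsSquare ((-1 : F) ^ m) ↔ Even m ∨ Nat.card F % 4 = 1 := by
  have hiff := FiniteField.isSquare_neg_one_iff (F := F)
  rw [← Nat.card_eq_fintype_card] at hiff
  rcases Nat.even_or_odd m with hm | hm
  · rw [hm.neg_one_pow]
    simp [hm]
  · rw [hm.neg_one_pow, hiff]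
    simp only [Nat.not_even_iff_odd.mpr hm, false_or]
    obtain ⟨k, hk⟩ := hF
    omega

/-- Even dimension, in terms of the discriminant. -/
theorem sqComm_even (hF : Odd (Nat.card F)) (hQ : Q.polarBilin.Nondegenerate) {m : ℕ} (hm : 2 ≤ m)
    (hι : Fintype.card ι = 2 * m) (htype : 4 ≤ m ∨ IsSquare (Orth.gram ⇑Q).det)
    (hsq : IsSquare (Orth.gram ⇑Q).det → (Nat.card (IsoGrp Q)).factorization 2 =
      m * padicValNat 2 (Nat.card F ^ 2 - 1) + padicValNat 2 m.factorial)
    (hns : ¬ IsSquare (Orth.gram ⇑Q).det → (Nat.card (IsoGrp Q)).factorization 2 =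
      (m - 1) * padicValNat 2 (Nat.card F ^ 2 - 1) + padicValNat 2 (m - 1).factorial + 2)
    (hdet : (Orth.gram ⇑Q).det ≠ 0)
    (P : Sylow 2 (Omega F ⇑Q)) : SqComm (P : Subgroup (Omega F ⇑Q)) := by
  classical
  have h2 := two_ne_zero_of_odd hF
  haveI : Nonempty ι := Fintype.card_pos_iff.mp (by omega)
  obtain ⟨i₀⟩ := ‹Nonempty ι›
  obtain ⟨c, hc, h1, h0⟩ := OrthRank.exists_orth_frame hQ h2 one_ne_zero i₀
  obtain ⟨w, hw⟩ := isSquare_last hQ h2 hι hc h1
  have hG := Good.of_two_ne_zero hQ h2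
  by_cases hD : IsSquare (Orth.gram ⇑Q).det
  · have hsq0 : IsSquare (Q (c i₀)) := by
      obtain ⟨d, hd⟩ := hD
      have hd0 : d ≠ 0 := fun h => hdet (by rw [hd, h, zero_mul])
      exact ⟨w / d, by rw [div_mul_div_comm, eq_div_iff (mul_ne_zero hd0 hd0), ← hd, hw]⟩
    obtain ⟨c', hc', hu⟩ := exists_unit_last hc h1 h0 hsq0
    exact sqComm_of_orthBasis (n := m) (R := Fin 0) hm hF hG c' hc' (by simp [hι]) i₀
      (fun i _ => hu i) (Or.inl (hu i₀)) (by rw [hsq hD]; simp) P
  · exact sqComm_of_orthBasis (n := m - 1) (R := Fin 2)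
      (by have := htype.resolve_right hD; omega) hF hG c hc (by simp [hι]; omega) i₀ h1
      (Or.inr (by simp)) (by rw [hns hD, Fintype.card_fin]) P

theorem val_pow_add_one {q : ℕ} (hq : Odd q) {m : ℕ} (h : Even m ∨ q % 4 = 1) :
    padicValNat 2 (q ^ m + 1) = 1 := by
  have h1 : q ^ m % 4 = 1 := by
    rcases h with ⟨j, rfl⟩ | h
    · rw [← two_mul, pow_mul, Nat.pow_mod, show q ^ 2 % 4 = 1 by
        obtain ⟨k, rfl⟩ := hq; ring_nf; omega, one_pow, Nat.one_mod_eq_one.mpr (by norm_num)]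
    · rw [Nat.pow_mod, h, one_pow, Nat.one_mod_eq_one.mpr (by norm_num)]
  obtain ⟨k, hk⟩ : ∃ k, q ^ m + 1 = 2 * (2 * k + 1) := ⟨q ^ m / 4, by omega⟩
  rw [hk, padicValNat.mul two_ne_zero (by omega), padicValNat_self,
    padicValNat.eq_zero_of_not_dvd (show ¬ 2 ∣ 2 * k + 1 by omega)]

theorem val_pow_sub_one {q : ℕ} (hq : Odd q) (hq1 : 1 < q) {m : ℕ} (hm : m ≠ 0)
    (h : Even m ∨ q % 4 = 1) :
    padicValNat 2 (q ^ m - 1) + 1 = padicValNat 2 (q ^ 2 - 1) + padicValNat 2 m := by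
  rcases Nat.even_or_odd m with ⟨j, rfl⟩ | ⟨j, rfl⟩
  · rw [← two_mul, val_pow_even hq hq1 (by omega), padicValNat.mul two_ne_zero (by omega),
      padicValNat_self]
    omega
  · have h4 : q % 4 = 1 := h.resolve_left (by simp [parity_simps])
    rw [val_pow_odd hq hq1, padicValNat.eq_zero_of_not_dvd (show ¬ 2 ∣ 2 * j + 1 by omega),
      show q ^ 2 - 1 = (q + 1) * (q - 1) by rw [← one_pow 2, Nat.sq_sub_sq, one_pow],
      padicValNat.mul (by omega) (by omega),
      show padicValNat 2 (q + 1) = 1 by simpa using val_pow_add_one hq (m := 1) (Or.inr h4)]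
    omega

theorem val_pow_add_one' {q : ℕ} (hq : Odd q) (hq1 : 1 < q) {m : ℕ} (h : ¬ (Even m ∨ q % 4 = 1)) :
    padicValNat 2 (q ^ m + 1) + 1 = padicValNat 2 (q ^ 2 - 1) ∧ padicValNat 2 (q ^ m - 1) = 1 := by
  rw [not_or] at h
  obtain ⟨j, rfl⟩ := Nat.not_even_iff_odd.mp h.1
  have h4 : q % 4 = 3 := by obtain ⟨k, hk⟩ := hq; omega
  have hv : padicValNat 2 (q - 1) = 1 := by
    obtain ⟨k, hk⟩ : ∃ k, q - 1 = 2 * (2 * k + 1) := ⟨q / 4, by omega⟩
    rw [hk, padicValNat.mul two_ne_zero (by omega), padicValNat_self,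
      padicValNat.eq_zero_of_not_dvd (show ¬ 2 ∣ 2 * k + 1 by omega)]
  have hm1 : padicValNat 2 (q ^ (2 * j + 1) - 1) = 1 := by rw [val_pow_odd hq hq1, hv]
  refine ⟨?_, hm1⟩
  have h2 := val_pow_even hq hq1 (k := 2 * j + 1) (by omega)
  have hpos := Nat.one_lt_pow (show 2 * j + 1 ≠ 0 by omega) hq1
  rw [show q ^ (2 * (2 * j + 1)) - 1 = (q ^ (2 * j + 1) + 1) * (q ^ (2 * j + 1) - 1) by
      rw [mul_comm 2, pow_mul, ← one_pow 2, Nat.sq_sub_sq, one_pow],
    padicValNat.mul (by omega) (by omega), hm1,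
    padicValNat.eq_zero_of_not_dvd (show ¬ 2 ∣ 2 * j + 1 by omega)] at h2
  omega

theorem val_factorial_step {m : ℕ} (hm : 1 ≤ m) :
    padicValNat 2 m.factorial = padicValNat 2 m + padicValNat 2 (m - 1).factorial := by
  obtain ⟨k, rfl⟩ : ∃ k, m = k + 1 := ⟨m - 1, by omega⟩
  rw [Nat.add_sub_cancel, Nat.factorial_succ, padicValNat.mul (by omega) (Nat.factorial_ne_zero k)]

/-- Plus type. -/
theorem sqComm_omega_plus (hF : Odd (Nat.card F)) (m : ℕ) (hm : 2 ≤ m) (hm' : Even m ∨ 4 ≤ m)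
    (P : Sylow 2 (Omega F (quadFormPlus m F))) : SqComm (P : Subgroup (Omega F (quadFormPlus m F))) := by
  have hq1 : 1 < Nat.card F := Finite.one_lt_card
  have hdet : (Orth.gram (quadFormPlus m F)).det = (-1) ^ m := det_gram_quadPlus m
  have hcard : Nat.card (IsoGrp (quadPlus m F)) = _ :=
    Cfsg.Agent.S0287.result (q := Nat.card F) Nat.card_eq_fintype_card.symm m (by omega)
  have hpos := Nat.one_lt_pow (show m ≠ 0 by omega) hq1
  have hprod : (∏ i ∈ Finset.range (m - 1), (Nat.card F ^ (2 * (i + 1)) - 1)) ≠ 0 :=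
    Finset.prod_ne_zero_iff.mpr fun i _ => by
      have := Nat.one_lt_pow (show 2 * (i + 1) ≠ 0 by omega) hq1
      omega
  have hval : (Nat.card (IsoGrp (quadPlus m F))).factorization 2 =
      1 + (padicValNat 2 (Nat.card F ^ m - 1) + ((m - 1) * padicValNat 2 (Nat.card F ^ 2 - 1) +
        padicValNat 2 (m - 1).factorial)) := by
    rw [hcard, mul_assoc, factorization_card hF (mul_ne_zero (by omega) hprod),
      padicValNat.mul (by omega) hprod, val_prod_sp hF hq1]
  have hmul : m * padicValNat 2 (Nat.card F ^ 2 - 1) =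
      (m - 1) * padicValNat 2 (Nat.card F ^ 2 - 1) + padicValNat 2 (Nat.card F ^ 2 - 1) := by
    conv_lhs => rw [show m = (m - 1) + 1 by omega, add_one_mul]
  refine sqComm_even (Q := quadPlus m F) hF (quadPlus_nondeg m) hm (by simp; omega)
    (show 4 ≤ m ∨ IsSquare (Orth.gram (quadFormPlus m F)).det from hm'.symm.imp id fun h => by
      rw [hdet, h.neg_one_pow]; exact IsSquare.one) (fun h => ?_) (fun h => ?_) ?_ P
  · have h' : IsSquare ((-1 : F) ^ m) := hdet ▸ h
    rw [isSquare_neg_one_pow_iff hF] at h'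
    have := val_pow_sub_one hF hq1 (show m ≠ 0 by omega) h'
    have := val_factorial_step (show 1 ≤ m by omega)
    rw [hval, hmul]
    omega
  · have h' : ¬ IsSquare ((-1 : F) ^ m) := hdet ▸ h
    rw [isSquare_neg_one_pow_iff hF] at h'
    rw [hval, (val_pow_add_one' hF hq1 h').2]
    omega
  · show (Orth.gram (quadFormPlus m F)).det ≠ 0
    rw [hdet]; exact pow_ne_zero _ (neg_ne_zero.mpr one_ne_zero)

/-- Minus type. -/
theorem sqComm_omega_minus (hF : Odd (Nat.card F)) (m : ℕ) (hm : 4 ≤ m) (a b : F) (hab : Aniso a b)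
    (P : Sylow 2 (Omega F (quadFormMinus (m - 1) F a b))) :
    SqComm (P : Subgroup (Omega F (quadFormMinus (m - 1) F a b))) := by
  classical
  have h2 := two_ne_zero_of_odd hF
  have hq1 : 1 < Nat.card F := Finite.one_lt_card
  have hns : ¬ IsSquare (a * a - 4 * b) := by
    rintro ⟨w, hw⟩
    have := hab ((-a + w) / 2) 1 (by field_simp; linear_combination -hw)
    exact one_ne_zero this.2
  have hdet : (Orth.gram (quadFormMinus (m - 1) F a b)).det = (-1) ^ m * (a * a - 4 * b) := by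
    rw [det_gram_quadMinus, show m - 1 + 1 = m by omega]
  have hsqiff : IsSquare (Orth.gram (quadFormMinus (m - 1) F a b)).det ↔
      ¬ IsSquare ((-1 : F) ^ m) := by
    rw [hdet, ← quadraticChar_one_iff_isSquare (mul_ne_zero (pow_ne_zero _ (neg_ne_zero.mpr one_ne_zero))
      hab.disc_ne_zero), ← quadraticChar_neg_one_iff_not_isSquare, map_mul,
      quadraticChar_neg_one_iff_not_isSquare.mpr hns, mul_neg_one, neg_eq_iff_eq_neg]
  have hcard : Nat.card (IsoGrp (quadMinus (m - 1) F a b)) = _ :=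
    Cfsg.Agent.S0288.result (q := Nat.card F) Nat.card_eq_fintype_card.symm m (by omega) a b hab
  have hprod : (∏ i ∈ Finset.range (m - 1), (Nat.card F ^ (2 * (i + 1)) - 1)) ≠ 0 :=
    Finset.prod_ne_zero_iff.mpr fun i _ => by
      have := Nat.one_lt_pow (show 2 * (i + 1) ≠ 0 by omega) hq1
      omega
  have hval : (Nat.card (IsoGrp (quadMinus (m - 1) F a b))).factorization 2 =
      1 + (padicValNat 2 (Nat.card F ^ m + 1) + ((m - 1) * padicValNat 2 (Nat.card F ^ 2 - 1) +
        padicValNat 2 (m - 1).factorial)) := by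
    rw [hcard, mul_assoc, factorization_card hF (mul_ne_zero (by omega) hprod),
      padicValNat.mul (by omega) hprod, val_prod_sp hF hq1]
  have hmul : m * padicValNat 2 (Nat.card F ^ 2 - 1) =
      (m - 1) * padicValNat 2 (Nat.card F ^ 2 - 1) + padicValNat 2 (Nat.card F ^ 2 - 1) := by
    conv_lhs => rw [show m = (m - 1) + 1 by omega, add_one_mul]
  refine sqComm_even (Q := quadMinus (m - 1) F a b) hF (quadMinus_nondeg (m - 1) hab)
    (show 2 ≤ m by omega) (by simp; omega) (Or.inl hm) (fun h => ?_) (fun h => ?_) ?_ P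
  · have h' : ¬ IsSquare ((-1 : F) ^ m) := hsqiff.mp h
    rw [isSquare_neg_one_pow_iff hF] at h'
    have := (val_pow_add_one' hF hq1 h').1
    have := val_factorial_step (show 1 ≤ m by omega)
    have hodd : padicValNat 2 m = 0 := padicValNat.eq_zero_of_not_dvd fun hd =>
      h' (Or.inl (even_iff_two_dvd.mpr hd))
    rw [hval, hmul]
    omega
  · have h' : IsSquare ((-1 : F) ^ m) := Classical.not_not.mp fun hh => h (hsqiff.mpr hh)
    rw [isSquare_neg_one_pow_iff hF] at h'
    rw [hval, val_pow_add_one hF h']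
    omega
  · show (Orth.gram (quadFormMinus (m - 1) F a b)).det ≠ 0
    rw [hdet]
    exact mul_ne_zero (pow_ne_zero _ (neg_ne_zero.mpr one_ne_zero)) hab.disc_ne_zero

end Cfsg.Agent.WreathAb
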